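import Cfsg.Agent.H26.Ore.R13
import Cfsg.Agent.H180.PSD.Fi24
import Cfsg.Agent.H843.Ore.R11
import Cfsg.Agent.H843.Fi24Ext
import Cfsg.Agent.H201.Fi.Arith2
import Cfsg.Agent.H653.Sieve.Col
import Cfsg.Agent.H161.Rec.Fi24Facts
import Cfsg.Agent.H48.OreFi.Frame
import Cfsg.Agent.Characters.SchurBound
import Cfsg.Agent.Characters.GaloisBasic
import Cfsg.Agent.SmallSimple.DihedralNormalizer

/-!
# The degrees of the irreducible characters of `Fi24'` modulo 29 (helper26)

* `hDN` : a non-trivial irreducible character of degree `± 1` modulo 29 has degree at least `57477`;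
* `hDX` : an irreducible character of degree `± 14` modulo 29 has degree at least `125120`.
-/

set_option autoImplicit false
set_option linter.unusedSectionVars false

open Cfsg
open scoped ComplexConjugate

namespace Cfsg.Agent.H26.Ore.Fi24Deg

open Subgroup
open Cfsg.Agent.Characters Cfsg.Agent.Characters.Core Cfsg.Agent.OddOrderCharacters

universe u

/-! ### Clifford theory for a subgroup of index 2, with values -/

/-- an irreducible character of a subgroup `H` of index 2 extends, or it induces to an irreducible character `ψ`, and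
`ψ h = 2 θ h` if `h` commutes with an element outside `H` (after `H180.PSD.index_two`) -/
theorem index_two {G : Type u} [Group G] [Finite G] (H : Subgroup G) (hidx : H.index = 2) {θ : H → ℂ}
    (hθ : IsIrrCharacter H θ) :
    ∃ ψ : G → ℂ, IsIrrCharacter G ψ ∧ ((∀ h : H, ψ h = θ h) ∨
      ((∀ g : G, g ∉ H → ψ g = 0) ∧ ∀ h : H, ∀ t : G, t ∉ H → Commute t h → ψ h = 2 * θ h)) := by
  classical
  have hN : H.Normal := Subgroup.normal_of_index_eq_two hidx
  have _ := Fintype.ofFinite G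
  have _ := Fintype.ofFinite H
  have hcardH : 0 < Nat.card H := Nat.card_pos
  have hGH : Nat.card G = 2 * Nat.card H := by rw [← H.index_mul_card, hidx]
  have hab : ∀ x y : G, x * y * x⁻¹ * y⁻¹ ∈ H := by
    intro x y
    have h1 := Subgroup.mul_mem_iff_of_index_two hidx (a := x) (b := y)
    have h2 := Subgroup.mul_mem_iff_of_index_two hidx (a := x * y) (b := x⁻¹)
    have h3 := Subgroup.mul_mem_iff_of_index_two hidx (a := x * y * x⁻¹) (b := y⁻¹)
    rw [H.inv_mem_iff] at h2 h3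
    rw [h3, h2, h1]
    tauto
  by_cases hinv : ∀ g : G, ∀ h : H, θ ⟨g * h * g⁻¹, hN.conj_mem h h.2 g⟩ = θ h
  · obtain ⟨e, C, he, hC, hcard, hind, hdeg, -⟩ := InertiaAbelian.main H ⊤ θ hθ (fun g => ⟨fun _ => hinv g, fun _ => trivial⟩)
      (fun x _ y _ => hab x y)
    rw [Subgroup.card_top, hGH] at hcard
    have h1 : e ^ 2 * C.card = 2 := Nat.eq_of_mul_eq_mul_right hcardH hcard
    have h2 : e = 1 := by
      have h3 : e < 2 := by
        by_contra h4
        have h5 : 2 ≤ e := not_lt.1 h4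
        have h6 : C.card ≠ 0 := by rintro h7; rw [h7] at h1; omega
        have h7 : 0 < C.card := Nat.pos_of_ne_zero h6
        nlinarith
      omega
    subst h2
    rw [one_pow, one_mul] at h1
    obtain ⟨ψ, hψ⟩ := Finset.card_pos.1 (by rw [h1]; norm_num : 0 < C.card)
    have hψi := hC ψ hψ
    refine ⟨ψ, hψi, Or.inl ?_⟩
    have hcl := isIrr_isClassFunction hψi
    have h3 : classInner (indFun H θ) ψ = 1 := by
      rw [hind, Nat.cast_one, one_smul, Core.classInner_sum_left, Finset.sum_eq_single ψ, classInner_irr_self hψi]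
      · intro χ hχ hne
        exact classInner_irr_ne (hC χ hχ) hψi hne
      · intro h; exact absurd hψ h
    rw [IndRes.classInner_indFun_left H θ hcl] at h3
    have h4 : classInner (IndRes.res H ψ) θ ≠ 0 := by
      intro h5
      have h6 : classInner θ (IndRes.res H ψ) = conj (classInner (IndRes.res H ψ) θ) :=
        (classInner_conj_symm (IndRes.res H ψ) θ).symm
      rw [h5, map_zero] at h6
      rw [h6] at h3
      exact zero_ne_one h3
    have h5 := Clifford.isCharacter_sub_irr (IndRes.isCharacter_res (H := H) (isIrr_isCharacter hψi)) hθ h4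
    have h6 := H180.PSD.isCharacter_eq_zero h5 (by
      rw [Pi.sub_apply, IndRes.res_apply]
      have h7 := hdeg ψ hψ
      rw [Subgroup.index_top, Nat.cast_one, one_mul, one_mul] at h7
      have h8 : ((1 : H) : G) = 1 := rfl
      rw [h8, h7, sub_self])
    intro h
    have h7 := congrFun h6 h
    rw [Pi.sub_apply, IndRes.res_apply, Pi.zero_apply, sub_eq_zero] at h7
    exact h7
  · push Not at hinv
    obtain ⟨g0, h0, hg0⟩ := hinv
    have hcl := isIrr_isClassFunction hθ
    have hHT : ∀ g ∈ H, ∀ h : H, θ ⟨g * h * g⁻¹, hN.conj_mem h h.2 g⟩ = θ h := by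
      intro g hg h
      rw [← hcl h ⟨g, hg⟩]
      rfl
    have hmul : ∀ a b : G, (∀ h : H, θ ⟨a * h * a⁻¹, hN.conj_mem h h.2 a⟩ = θ h) →
        (∀ h : H, θ ⟨b * h * b⁻¹, hN.conj_mem h h.2 b⟩ = θ h) →
        ∀ h : H, θ ⟨a * b * h * (a * b)⁻¹, hN.conj_mem h h.2 (a * b)⟩ = θ h := by
      intro a b ha hb h
      rw [← hb h, ← ha ⟨b * h * b⁻¹, hN.conj_mem h h.2 b⟩]
      congr 1
      apply Subtype.ext
      show a * b * h * (a * b)⁻¹ = a * (b * h * b⁻¹) * a⁻¹
      group
    have hT : ∀ g : G, g ∈ H ↔ ∀ h : H, θ ⟨g * h * g⁻¹, hN.conj_mem h h.2 g⟩ = θ h := by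
      intro g
      refine ⟨hHT g, fun hg => ?_⟩
      by_contra hgH
      apply hg0
      have hg0H : g0 ∉ H := fun h => hg0 (hHT g0 h h0)
      have h1 : g⁻¹ * g0 ∈ H := by
        rw [Subgroup.mul_mem_iff_of_index_two hidx, H.inv_mem_iff]
        tauto
      have h2 := hmul g (g⁻¹ * g0) hg (hHT _ h1) h0
      rw [← h2]
      congr 1
      apply Subtype.ext
      show g0 * h0 * g0⁻¹ = g * (g⁻¹ * g0) * h0 * (g * (g⁻¹ * g0))⁻¹
      group
    obtain ⟨e, C, he, hC, hcard, hind, hdeg, -⟩ := InertiaAbelian.main H H θ hθ hT (fun x _ y _ => hab x y)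
    have h1 : e ^ 2 * C.card = 1 := Nat.eq_of_mul_eq_mul_right hcardH (by rw [hcard, one_mul])
    have h2 : e ^ 2 = 1 := Nat.eq_one_of_mul_eq_one_right h1
    have h3 : C.card = 1 := Nat.eq_one_of_mul_eq_one_left h1
    have he1 : e = 1 := by
      rw [pow_two] at h2
      exact Nat.eq_one_of_mul_eq_one_right h2
    subst he1
    obtain ⟨ψ, rfl⟩ := Finset.card_eq_one.1 h3
    rw [Finset.sum_singleton, Nat.cast_one, one_smul] at hind
    refine ⟨ψ, hC ψ (Finset.mem_singleton_self _), Or.inr ⟨?_, ?_⟩⟩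
    · intro g hg
      rw [← hind, indFun]
      refine mul_eq_zero_of_right _ (Finset.sum_eq_zero fun x _ => ?_)
      rw [extendByZero, Function.extend_apply']
      · rfl
      · rintro ⟨a, ha⟩
        apply hg
        have h4 := hN.conj_mem a a.2 x
        rw [ha] at h4
        have h5 : x * (x⁻¹ * g * x) * x⁻¹ = g := by group
        rwa [h5] at h4
    · intro h t ht hc
      have hval : ∀ x : G, extendByZero H θ (x⁻¹ * h * x) = θ h := by
        intro x
        obtain ⟨y, hy, hxy⟩ : ∃ y ∈ H, x⁻¹ * (h : G) * x = y⁻¹ * (h : G) * y := by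
          by_cases hx : x ∈ H
          · exact ⟨x, hx, rfl⟩
          · refine ⟨t⁻¹ * x, ?_, ?_⟩
            · rw [Subgroup.mul_mem_iff_of_index_two hidx, H.inv_mem_iff]
              tauto
            · have h6 : t * (h : G) * t⁻¹ = h := by rw [hc.eq, mul_inv_cancel_right]
              calc x⁻¹ * (h : G) * x = x⁻¹ * (t * (h : G) * t⁻¹) * x := by rw [h6]
                _ = (t⁻¹ * x)⁻¹ * (h : G) * (t⁻¹ * x) := by group
        rw [hxy]
        have h7 : y⁻¹ * (h : G) * y = ((⟨y, hy⟩⁻¹ * h * ⟨y, hy⟩⁻¹⁻¹ : H) : G) := by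
          rw [inv_inv]
          rfl
        rw [h7, extendByZero, Function.Injective.extend_apply Subtype.val_injective]
        exact hcl h ⟨y, hy⟩⁻¹
      rw [← hind, indFun, Finset.sum_congr rfl fun x _ => hval x, Finset.sum_const, nsmul_eq_mul, Finset.card_univ,
        ← Nat.card_eq_fintype_card, hGH]
      have h8 : (Nat.card H : ℂ) ≠ 0 := by exact_mod_cast hcardH.ne'
      push_cast
      field_simp

/-! ### The local data of `Fi24'` -/

open Cfsg.Agent.R08.FiTwentyFour (L index_commutator card_commutator finite_Fi24)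
open Cfsg.Agent.H48.OreFi (finite')

theorem card_F' : Nat.card Spor.Fi24' = 1255205709190661721292800 := card_commutator

theorem simple_F' : IsSimpleGroup Spor.Fi24' := R08.FiTwentyFour.isFi24'.1

theorem not_comm : ¬ IsMulCommutative Spor.Fi24' := by
  have := simple_F'
  have hfin : Finite Spor.Fi24' := finite'
  intro h
  let _ : CommGroup Spor.Fi24' := { (inferInstance : Group Spor.Fi24') with mul_comm := fun a b => h.is_comm.comm a b }
  have h1 : (Nat.card Spor.Fi24').Prime := IsSimpleGroup.prime_card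
  rw [card_F'] at h1
  have h2 : (2 : ℕ) ∣ 1255205709190661721292800 := by norm_num
  have := (Nat.prime_dvd_prime_iff_eq Nat.prime_two h1).1 h2
  norm_num at this

/-- the degrees modulo 17 -/
theorem res17 (χ : IrrCharacter Spor.Fi24') : charDegree (χ : Spor.Fi24' → ℂ) % 17 = 0 ∨
    charDegree (χ : Spor.Fi24' → ℂ) % 17 = 1 ∨ charDegree (χ : Spor.Fi24' → ℂ) % 17 = 16 := by
  have hfin : Finite Spor.Fi24' := finite'
  have := simple_F'
  have : Finite (IrrCharacter Spor.Fi24') := finite_irr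
  have := Fintype.ofFinite (IrrCharacter Spor.Fi24')
  have : Fact (Nat.Prime 17) := ⟨by norm_num⟩
  obtain ⟨x, hx, hc⟩ := H161.Rec.FiTF.cent17
  obtain ⟨P, W, -, -, -, hW⟩ := H653.Sieve.exists_col not_comm card_F' hx (k := 1) (by rw [hc]) 16 1
    [(0, 0), (1, 1), (16, -1)] 0 false (by decide +kernel)
  have h := hW.mem χ
  simp only [List.mem_cons, Prod.mk.injEq, List.not_mem_nil, or_false] at h
  rcases h with ⟨h, -⟩ | ⟨h, -⟩ | ⟨h, -⟩
  exacts [Or.inl h, Or.inr (Or.inl h), Or.inr (Or.inr h)]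

/-- the degrees modulo 23 -/
theorem res23 (χ : IrrCharacter Spor.Fi24') : charDegree (χ : Spor.Fi24' → ℂ) % 23 = 0 ∨
    charDegree (χ : Spor.Fi24' → ℂ) % 23 = 1 ∨ charDegree (χ : Spor.Fi24' → ℂ) % 23 = 22 ∨
      charDegree (χ : Spor.Fi24' → ℂ) % 23 = 11 ∨ charDegree (χ : Spor.Fi24' → ℂ) % 23 = 12 := by
  have hfin : Finite Spor.Fi24' := finite'
  have := simple_F'
  have : Finite (IrrCharacter Spor.Fi24') := finite_irr
  have := Fintype.ofFinite (IrrCharacter Spor.Fi24')
  have : Fact (Nat.Prime 23) := ⟨by norm_num⟩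
  obtain ⟨x, hx, hc⟩ := H161.Rec.FiTF.cent23
  obtain ⟨P, W, -, -, -, hW⟩ := H653.Sieve.exists_col not_comm card_F' hx (k := 1) (by rw [hc]) 11 2
    [(0, 0), (1, 2), (11, -1), (12, 1), (22, -2)] 2 true (by decide +kernel)
  have h := hW.mem χ
  simp only [List.mem_cons, Prod.mk.injEq, List.not_mem_nil, or_false] at h
  rcases h with ⟨h, -⟩ | ⟨h, -⟩ | ⟨h, -⟩ | ⟨h, -⟩ | ⟨h, -⟩
  exacts [Or.inl h, Or.inr (Or.inl h), Or.inr (Or.inr (Or.inr (Or.inl h))), Or.inr (Or.inr (Or.inr (Or.inr h))),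
    Or.inr (Or.inr (Or.inl h))]

/-! ### The values -/

open Cfsg.Agent.H845.T13 (facts)

/-- the value at a product of order 3 modulo 3 -/
theorem mod_three {G : Type u} [Group G] [Finite G] (χ : IrrCharacter G) {a b : G} (h3 : (a * b) ^ 3 = 1)
    (hne : a * b ≠ 1) (ha : a * a = 1) (hb : b * b = 1) {n c : ℤ} (h1 : (χ : G → ℂ) 1 = n)
    (hc : (χ : G → ℂ) (a * b) = c) (hc' : (χ : G → ℂ) (b * a) = c) : (3 : ℤ) ∣ n - c := by
  classical
  have : Fact (Nat.Prime 3) := ⟨Nat.prime_three⟩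
  have ho : orderOf (a * b) = 3 := orderOf_eq_prime h3 hne
  have := Fintype.ofFinite (zpowers (a * b))
  obtain ⟨m, hm⟩ := H570.Ore.Blk.exists_sum χ (zpowers (a * b))
  rw [Nat.card_zpowers, ho] at hm
  have h2 : ∀ y : zpowers (a * b), (χ : G → ℂ) y = c + if y = 1 then (n : ℂ) - c else 0 := by
    intro y
    split_ifs with hy
    · rw [hy, OneMemClass.coe_one, h1]; ring
    · rw [add_zero]
      have h4 : (y : G) = a * b ∨ (y : G) = (a * b) * (a * b) := by
        obtain ⟨i, hi⟩ := (isOfFinOrder_of_finite (a * b)).mem_powers_iff_mem_zpowers.2 y.2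
        have hi' : (a * b) ^ i = y := hi
        have h5 : (a * b) ^ (i % 3) = y := by rw [← hi', ← ho, pow_mod_orderOf]
        have h6 : i % 3 < 3 := Nat.mod_lt _ (by norm_num)
        have h7 : i % 3 ≠ 0 := by
          intro h0
          rw [h0, pow_zero] at h5
          exact hy (Subtype.ext h5.symm)
        have h8 : i % 3 = 1 ∨ i % 3 = 2 := by omega
        rcases h8 with h8 | h8
        · rw [h8, pow_one] at h5; exact Or.inl h5.symm
        · rw [h8, pow_two] at h5; exact Or.inr h5.symm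
      rcases h4 with h4 | h4
      · rw [h4, hc]
      · have h5 : (a * b) * (a * b) = b * a := by
          have h6 : (a * b) * (a * b) * (a * b) = 1 := by rw [← h3, pow_succ, pow_two]
          have h7 : (a * b) * (a * b) = (a * b)⁻¹ := eq_inv_of_mul_eq_one_left h6
          rw [h7, mul_inv_rev, inv_eq_of_mul_eq_one_right ha, inv_eq_of_mul_eq_one_right hb]
        rw [h4, h5, hc']
  rw [Finset.sum_congr rfl fun y _ => h2 y, Finset.sum_add_distrib, Finset.sum_const, Finset.sum_ite_eq',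
    if_pos (Finset.mem_univ _), nsmul_eq_mul, Finset.card_univ, ← Nat.card_eq_fintype_card, Nat.card_zpowers, ho] at hm
  have h4 : 3 * c + (n - c) = m * 3 := by exact_mod_cast hm
  omega

/-- the product of two commuting transpositions -/
noncomputable def z13 : Spor.Fi24' := ⟨_, R08.FiTwentyFour.even facts.hl facts.hu⟩

theorem lu_ne : Cfsg.Agent.Fischer.Fi24Rep.gen .l ≠ H845.T13.u := fun h => facts.lkn (by rw [h]; exact facts.ku.symm)

theorem val_z13 {psi : IrrCharacter Spor.Fi24} {n u B C : ℤ} (V : H180.PSD.Vals psi n u B C) :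
    (psi : Spor.Fi24 → ℂ) z13 = B := V.val_c _ facts.hl _ facts.hu lu_ne facts.lu

theorem val_z11 {psi : IrrCharacter Spor.Fi24} {n u B C : ℤ} (V : H180.PSD.Vals psi n u B C) :
    (psi : Spor.Fi24 → ℂ) H843.Ore.R11.z = B :=
  V.val_c _ H843.Ore.R11.t1_mem _ H843.Ore.R11.t2_mem H843.D11.n12 H843.D11.c12

theorem abs_le {G : Type u} [Group G] [Finite G] (χ : IrrCharacter G) {N : ℕ} (h1 : (χ : G → ℂ) 1 = N) {g : G} {b : ℤ}
    (hb : (χ : G → ℂ) g = b) : |b| ≤ N := by
  have h := Characters.SchurBound.norm_le (isIrr_isCharacter χ.2) h1 g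
  rw [hb, Complex.norm_intCast] at h
  exact_mod_cast h

theorem three_psi {psi : IrrCharacter Spor.Fi24} {n u B C : ℤ} (V : H180.PSD.Vals psi n u B C) : (3 : ℤ) ∣ n - C := by
  have := finite_Fi24
  refine mod_three psi (R13.cube facts.ll facts.kk facts.lk) (fun h1 => facts.lkn ?_) facts.ll facts.kk V.one
    (V.val_n _ facts.hl _ facts.hk facts.lkn) (V.val_n _ facts.hk _ facts.hl fun h => facts.lkn h.symm)
  rw [h1]
  have h2 := eq_inv_of_mul_eq_one_right h1
  rw [h2, inv_mul_cancel]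

/-- **characters which extend** -/
theorem caseE {χ : IrrCharacter Spor.Fi24'} {psi : IrrCharacter Spor.Fi24} (hne : (χ : Spor.Fi24' → ℂ) ≠ 1)
    (h : ∀ g : Spor.Fi24', (psi : Spor.Fi24 → ℂ) (g : Spor.Fi24) = (χ : Spor.Fi24' → ℂ) g)
    (h29 : charDegree (χ : Spor.Fi24' → ℂ) % 29 = 1 ∨ charDegree (χ : Spor.Fi24' → ℂ) % 29 = 28) :
    57477 ≤ charDegree (χ : Spor.Fi24' → ℂ) := by
  have hfin : Finite Spor.Fi24' := finite'
  have hfin' := finite_Fi24
  have hsim := simple_F'
  obtain ⟨n, u, B, C, V⟩ := H180.PSD.exists_vals psi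
  have hχ1 : (χ : Spor.Fi24' → ℂ) 1 = (charDegree (χ : Spor.Fi24' → ℂ) : ℂ) := Blocks.Knorr.charDegree_eq χ.2
  set N := charDegree (χ : Spor.Fi24' → ℂ) with hN
  have h1 := h 1
  rw [OneMemClass.coe_one, V.one, hχ1] at h1
  have hnN : n = N := by exact_mod_cast h1
  subst hnN
  have hz13 : (χ : Spor.Fi24' → ℂ) z13 = B := by rw [← h]; exact val_z13 V
  have hz11 : (χ : Spor.Fi24' → ℂ) H843.Ore.R11.z = B := by rw [← h]; exact val_z11 V
  refine H201.Fi.arithE2 (n := N) (u := u) (B := B) (C := C) ?_ h29 (res23 χ) (res17 χ) V.rel V.psd1 V.psd2 V.dvd_u ?_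
    (three_psi V) (abs_le χ hχ1 hz13) ?_ ?_ (H843.Ore.R11.r11 χ hχ1 hz11) ?_
  · rw [← card_F']
    exact Blocks.Knorr.charDegree_dvd χ.2
  · obtain ⟨c, hc⟩ := V.dvd_B
    exact ⟨2 * c, by linarith⟩
  · exact abs_le psi (by rw [V.one]; norm_cast) (V.val_d _ facts.hl)
  · intro hB
    have := Fintype.ofFinite Spor.Fi24'
    have h2 := SmallSimple.DihedralNormalizer.eq_one_of_apply_eq χ.2 hne (s := z13) (by rw [hz13, hχ1, hB]; norm_cast)
    have h3 : (z13 : Spor.Fi24) = 1 := congrArg (fun y : Spor.Fi24' => (y : Spor.Fi24)) h2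
    have h4 : H845.T13.u = (Cfsg.Agent.Fischer.Fi24Rep.gen .l)⁻¹ := eq_inv_of_mul_eq_one_right h3
    exact lu_ne (h4.trans (inv_eq_of_mul_eq_one_right facts.ll)).symm
  · exact R13.r13 facts index_commutator (fun d hd => R08.FiTwentyFour.odd hd) _ χ hχ1 hz13

/-- **characters which do not extend** -/
theorem caseS {χ : IrrCharacter Spor.Fi24'} {psi : IrrCharacter Spor.Fi24}
    (h0 : ∀ g : Spor.Fi24, g ∉ commutator Spor.Fi24 → (psi : Spor.Fi24 → ℂ) g = 0)
    (h2 : ∀ g : Spor.Fi24', ∀ t : Spor.Fi24, t ∉ commutator Spor.Fi24 → Commute t (g : Spor.Fi24) →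
      (psi : Spor.Fi24 → ℂ) (g : Spor.Fi24) = 2 * (χ : Spor.Fi24' → ℂ) g)
    (h29 : charDegree (χ : Spor.Fi24' → ℂ) % 29 = 1 ∨ charDegree (χ : Spor.Fi24' → ℂ) % 29 = 28 ∨
      charDegree (χ : Spor.Fi24' → ℂ) % 29 = 14 ∨ charDegree (χ : Spor.Fi24' → ℂ) % 29 = 15) :
    charDegree (χ : Spor.Fi24' → ℂ) = 68816 ∨ 125120 ≤ charDegree (χ : Spor.Fi24' → ℂ) := by
  have hfin : Finite Spor.Fi24' := finite'
  have hfin' := finite_Fi24
  obtain ⟨n, u, B, C, V⟩ := H180.PSD.exists_vals psi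
  have hχ1 : (χ : Spor.Fi24' → ℂ) 1 = (charDegree (χ : Spor.Fi24' → ℂ) : ℂ) := Blocks.Knorr.charDegree_eq χ.2
  set N := charDegree (χ : Spor.Fi24' → ℂ) with hN
  have hl : Cfsg.Agent.Fischer.Fi24Rep.gen .l ∉ commutator Spor.Fi24 := R08.FiTwentyFour.odd facts.hl
  have h1 := h2 1 _ hl (Commute.one_right _)
  rw [OneMemClass.coe_one, V.one, hχ1] at h1
  have hnN : n = 2 * N := by exact_mod_cast h1
  subst hnN
  -- the value at the transpositions
  have hu : u = 0 := by
    have h3 := V.val_d _ facts.hl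
    rw [h0 _ hl] at h3
    exact_mod_cast h3.symm
  subst hu
  have e13 := h2 z13 _ hl (by
    show Commute _ (_ * _)
    exact (Commute.refl _).mul_right facts.lu)
  have e11 := h2 H843.Ore.R11.z _ (R08.FiTwentyFour.odd H843.Ore.R11.t1_mem) (by
    show Commute _ (_ * _)
    exact (Commute.refl _).mul_right H843.D11.c12)
  rw [val_z13 V] at e13
  rw [val_z11 V] at e11
  have hzz : z13 * z13 = 1 := by
    apply Subtype.ext
    have h3 : Commute (Cfsg.Agent.Fischer.Fi24Rep.gen .l) H845.T13.u := facts.lu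
    show Cfsg.Agent.Fischer.Fi24Rep.gen .l * H845.T13.u * (Cfsg.Agent.Fischer.Fi24Rep.gen .l * H845.T13.u) = 1
    rw [h3.symm.mul_mul_mul_comm, facts.ll, facts.uu, mul_one]
  obtain ⟨b, hb⟩ := Nrm.exists_int_invol (isIrr_isCharacter χ.2) hzz
  rw [hb] at e13
  have hB : B = 2 * b := by exact_mod_cast e13
  subst hB
  have hb11 : (χ : Spor.Fi24' → ℂ) H843.Ore.R11.z = b := by
    push_cast at e11
    linear_combination -(1 / 2) * e11
  -- the value at the product of order 3
  set w : Spor.Fi24' := ⟨_, R08.FiTwentyFour.even facts.hl facts.hk⟩ with hw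
  have ew := h2 w _ (R08.FiTwentyFour.odd facts.hu) (by
    show Commute _ (_ * _)
    exact (show Commute _ _ from facts.lu.symm).mul_right (show Commute _ _ from facts.ku.symm))
  rw [show (psi : Spor.Fi24 → ℂ) (w : Spor.Fi24) = C from V.val_n _ facts.hl _ facts.hk facts.lkn] at ew
  obtain ⟨c, hc⟩ := Characters.GaloisBasic.exists_int_of_rat (isIrr_isCharacter χ.2) w
    ⟨(C : ℚ) / 2, by push_cast; linear_combination -(1 / 2) * ew⟩
  rw [hc] at ew
  have hC : C = 2 * c := by exact_mod_cast ew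
  subst hC
  have hpos := V.pos
  have hrel : (N : ℤ) + 31671 * b + 275264 * c = 0 := by
    have h3 := V.rel
    have h4 : (2 * (N : ℤ)) * (2 * ((N : ℤ) + 31671 * b + 275264 * c)) = 0 := by linarith
    rcases mul_eq_zero.1 h4 with h5 | h5 <;> omega
  have p1 := V.psd1
  have p2 := V.psd2
  have h3 := three_psi V
  refine H201.Fi.arithS2 (n := N) (b := b) (c := c) ?_ h29 hrel (by omega) (by omega) (by omega)
    (H843.Ore.R11.r11 χ hχ1 hb11) (R13.r13 facts index_commutator (fun d hd => R08.FiTwentyFour.odd hd) _ χ hχ1 hb)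
  rw [← card_F']
  exact Blocks.Knorr.charDegree_dvd χ.2

/-- **The degrees `± 1` modulo 29** -/
theorem hDN : ∀ χ : IrrCharacter Spor.Fi24', (χ : Spor.Fi24' → ℂ) ≠ 1 →
    (charDegree (χ : Spor.Fi24' → ℂ) % 29 = 1 ∨ charDegree (χ : Spor.Fi24' → ℂ) % 29 = 28) →
      57477 ≤ charDegree (χ : Spor.Fi24' → ℂ) := by
  intro χ hne h29
  have hfin' := finite_Fi24
  obtain ⟨psi, hpsi, h | ⟨h0, h2⟩⟩ := index_two (commutator Spor.Fi24) index_commutator χ.2
  · exact caseE (psi := ⟨psi, hpsi⟩) hne h h29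
  · rcases caseS (χ := χ) (psi := ⟨psi, hpsi⟩) h0 h2 (by tauto) with h | h <;> omega

/-- **The degrees `± 14` modulo 29** -/
theorem hDX : ∀ χ : IrrCharacter Spor.Fi24', (χ : Spor.Fi24' → ℂ) ≠ 1 →
    (charDegree (χ : Spor.Fi24' → ℂ) % 29 = 14 ∨ charDegree (χ : Spor.Fi24' → ℂ) % 29 = 15) →
      125120 ≤ charDegree (χ : Spor.Fi24' → ℂ) := by
  intro χ _ h29
  have hfin' := finite_Fi24
  obtain ⟨psi, hpsi, h | ⟨h0, h2⟩⟩ := index_two (commutator Spor.Fi24) index_commutator χ.2
  · exfalso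
    have h1 := H843.Fi24Ext.no_ext ⟨psi, hpsi⟩
    have h3 : charDegree (psi : Spor.Fi24 → ℂ) = charDegree (χ : Spor.Fi24' → ℂ) := by
      have h4 := Blocks.Knorr.charDegree_eq hpsi
      have h5 := Blocks.Knorr.charDegree_eq χ.2
      have h6 := h 1
      rw [OneMemClass.coe_one, h4] at h6
      rw [show (χ : Spor.Fi24' → ℂ) 1 = _ from h5] at h6
      exact_mod_cast h6
    have h4 : charDegree (((⟨psi, hpsi⟩ : IrrCharacter Spor.Fi24) : Spor.Fi24 → ℂ)) = charDegree (χ : Spor.Fi24' → ℂ) := h3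
    rw [h4] at h1
    rcases h29 with h5 | h5
    · exact h1.1 h5
    · exact h1.2 h5
  · rcases caseS (χ := χ) (psi := ⟨psi, hpsi⟩) h0 h2 (by tauto) with h | h <;> omega

end Cfsg.Agent.H26.Ore.Fi24Deg
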