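import Cfsg.Agent.SmallSimple.TheoremCCor

/-!
# Values of the irreducible characters at the elements of `C(P)`, `|P| = p`, modulo `p` (helper26)

`P` a Sylow subgroup of order `p`, `C(P) = P × K`. `exists_mult`: `χ y = ∑ θ', M θ' * θ' y` on `K` with natural
multiplicities `M`, and either `p ∣ M θ'` for all `θ'`, or `M` is constant on an orbit of `N(P)` on `Irr K` (the constant is
`± 1` or `± e_θ` modulo `p`) and `p ∣ M θ'` outside this orbit.
-/

set_option autoImplicit false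
set_option linter.unusedSectionVars false

open Cfsg
open scoped ComplexConjugate

namespace Cfsg.Agent.H26.Ore.Gen

open Subgroup
open Cfsg.Agent.Characters.Core Cfsg.Agent.Characters.Linear
open Cfsg.Agent.SmallSimple Cfsg.Agent.SmallSimple.PrimeDual Cfsg.Agent.SmallSimple.ThetaSetup
open Cfsg.Agent.SmallSimple.ThetaOrtho Cfsg.Agent.SmallSimple.ThetaGroup
open Cfsg.Agent.SmallSimple.ThetaCount Cfsg.Agent.SmallSimple.TheoremC Cfsg.Agent.SmallSimple.TheoremCCor

universe u

variable {G : Type u} [Group G] [Finite G] {p : ℕ} [Fact p.Prime] {P : Sylow p G} {K : Subgroup G}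

/-- multiplicities on `K` modulo `p` -/
theorem exists_mult (hK : IsComp p (P : Subgroup G) K) (hP : Nat.card P = p) {e t : ℕ}
    (he : (centralizer ((P : Subgroup G) : Set G)).relIndex (normalizer ((P : Subgroup G) : Set G)) = e)
    (ht : e * t = p - 1) [Fintype (IrrCharacter K)] (χ : IrrCharacter G) :
    ∃ M : IrrCharacter K → ℕ, (∀ y : K, (χ : G → ℂ) y = ∑ θ : IrrCharacter K, (M θ : ℂ) * (θ : K → ℂ) y) ∧
      ((∀ θ, p ∣ M θ) ∨ ∃ θ : IrrCharacter K, ∃ e' : ℕ, e' * (orb P K (θ : K → ℂ)).card = e ∧ ∃ c : ℤ,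
        (c = 1 ∨ c = -1 ∨ c = e' ∨ c = -e') ∧ (∀ θ' ∈ orb P K (θ : K → ℂ), (p : ℤ) ∣ M θ' - c) ∧
        ∀ θ', θ' ∉ orb P K (θ : K → ℂ) → p ∣ M θ') := by
  classical
  have hχc := isIrr_isCharacter χ.2
  have hχf := isIrr_isClassFunction χ.2
  have hM : ∀ θ : IrrCharacter K, ∃ m : ℕ, part (θ : K → ℂ) (χ : G → ℂ) 1 = m :=
    fun θ => exists_part_one hK hχc θ.2
  choose M hM using hM
  refine ⟨M, ?_, ?_⟩
  · intro y
    have h := sum_part hχf (x := (1 : G)) (fun y _ => by rw [one_mul, mul_one]) y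
    rw [one_mul] at h
    rw [h]
    exact Finset.sum_congr rfl fun θ _ => by rw [hM]
  have hzero : ∀ θ : IrrCharacter K, (∀ x : P, x ≠ 1 → part (θ : K → ℂ) (χ : G → ℂ) x = 0) → p ∣ M θ := by
    intro θ h
    obtain ⟨k, hk⟩ := part_one_of_const hK hP hχc θ.2 (c := 0) (fun x hx => by rw [h x hx]; simp)
    rw [hM] at hk
    have h2 : (M θ : ℤ) = p * k := by
      have : ((M θ : ℤ) : ℂ) = ((p * k : ℤ) : ℂ) := by push_cast; linear_combination hk
      exact_mod_cast this
    have h3 : (p : ℤ) ∣ M θ := ⟨k, h2⟩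
    exact_mod_cast h3
  by_cases hv : ∃ g : G, p ∣ orderOf g ∧ (χ : G → ℂ) g ≠ 0
  · right
    obtain ⟨θ, hθ⟩ := exists_mem_Over hK hP (χ := χ) hv
    set m := (orb P K (θ : K → ℂ)).card with hm
    have hcm := card_stabAct_mul_card_orb hK hP θ.2
    rw [he, ← hm] at hcm
    set eθ := Nat.card (stabAct hK (θ : K → ℂ)) with heθ
    have het : eθ * (m * t) = p - 1 := by rw [← mul_assoc, hcm, ht]
    obtain ⟨NE, X, ε, d, S, hB, -, -, -, hε, hd, hval, hvalX, -, -, -⟩ := theoremC hK hP θ.2 heθ.symm het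
    -- constant on the orbit
    have horb : ∀ θ' ∈ orb P K (θ : K → ℂ), M θ' = M θ := by
      intro θ' h
      obtain ⟨n, hn, h⟩ := mem_orb.1 h
      have h1 := part_conj hK (θ : K → ℂ) hχf hn 1
      rw [mul_one, mul_inv_cancel, h, hM, hM] at h1
      exact_mod_cast h1.symm
    have hout : ∀ θ', θ' ∉ orb P K (θ : K → ℂ) → p ∣ M θ' := fun θ' h =>
      hzero θ' fun x hx => part_eq_zero_of_not_mem_orb hK hP θ.2 hθ h hx
    refine ⟨θ, eθ, hcm, ?_⟩
    rcases (hB χ).1 hθ with h | h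
    · refine ⟨ε χ, ?_, fun θ' hθ' => ?_, hout⟩
      · rcases hε χ h with h1 | h1 <;> rw [h1] <;> simp
      · rw [horb θ' hθ']
        obtain ⟨k, hk⟩ := part_one_of_const hK hP hχc θ.2 (c := ε χ) (fun x hx => hval χ h x hx)
        rw [hM] at hk
        refine ⟨k, ?_⟩
        have : (((M θ : ℤ) - ε χ : ℤ) : ℂ) = ((p * k : ℤ) : ℂ) := by push_cast; linear_combination hk
        exact_mod_cast this
    · obtain ⟨hS1, hS2, -, hS3⟩ := hvalX χ h
      refine ⟨d * eθ, ?_, fun θ' hθ' => ?_, hout⟩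
      · rcases hd with h1 | h1 <;> rw [h1] <;> simp
      · rw [horb θ' hθ']
        obtain ⟨k, hk⟩ := part_one_of_exc hK hP hχc θ.2 hS2 hS3
        rw [hM, hS1] at hk
        refine ⟨k, ?_⟩
        have : (((M θ : ℤ) - d * eθ : ℤ) : ℂ) = ((p * k : ℤ) : ℂ) := by push_cast; linear_combination hk
        exact_mod_cast this
  · left
    intro θ
    refine hzero θ fun x hx => ?_
    apply part_eq_zero _ hx
    rintro ⟨x', hx', h⟩
    apply hv
    have := Fintype.ofFinite K
    rw [part_eq] at h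
    by_contra hcon
    apply h
    rw [Finset.sum_eq_zero, mul_zero]
    intro y _
    have h0 : (χ : G → ℂ) (x' * y) = 0 := by
      by_contra hne
      apply hcon
      refine ⟨x' * y, ?_, hne⟩
      have hx1 : (x' : G) ≠ 1 := fun h => hx' (Subtype.ext h)
      have hc : Commute (x' : G) (y : G) := hK.comm x'.2 y.2
      have ho := Blocks.CyclicOrtho.orderOf_eq P hP x'.2 hx1
      have hcop : (orderOf (x' : G)).Coprime (orderOf (y : G)) := by
        rw [ho]
        exact ((Fact.out : p.Prime).coprime_iff_not_dvd).2 ((hK y).1 y.2).2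
      rw [hc.orderOf_mul_eq_mul_orderOf_of_coprime hcop, ho]
      exact dvd_mul_right _ _
    rw [h0, zero_mul]

/-- the values at an element `y` of `K` at which the characters of `K` take integral values `v` -/
theorem mod_value (hK : IsComp p (P : Subgroup G) K) (hP : Nat.card P = p) {e t : ℕ}
    (he : (centralizer ((P : Subgroup G) : Set G)).relIndex (normalizer ((P : Subgroup G) : Set G)) = e)
    (ht : e * t = p - 1) (χ : IrrCharacter G) :
    (∀ (y : K) (v : IrrCharacter K → ℤ), (∀ θ : IrrCharacter K, (θ : K → ℂ) y = v θ) → ∀ b : ℤ,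
        (χ : G → ℂ) y = b → (p : ℤ) ∣ b) ∨
      ∃ θ : IrrCharacter K, ∃ e' : ℕ, e' * (orb P K (θ : K → ℂ)).card = e ∧ ∃ c : ℤ,
        (c = 1 ∨ c = -1 ∨ c = e' ∨ c = -e') ∧
        ∀ (y : K) (v : IrrCharacter K → ℤ), (∀ θ : IrrCharacter K, (θ : K → ℂ) y = v θ) → ∀ b : ℤ,
        (χ : G → ℂ) y = b → (p : ℤ) ∣ b - c * ∑ θ' ∈ orb P K (θ : K → ℂ), v θ' := by
  classical
  have : Finite (IrrCharacter K) := finite_irr
  have := Fintype.ofFinite (IrrCharacter K)
  obtain ⟨M, hM, h⟩ := exists_mult hK hP he ht χ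
  have hb : ∀ (y : K) (v : IrrCharacter K → ℤ), (∀ θ : IrrCharacter K, (θ : K → ℂ) y = v θ) → ∀ b : ℤ,
      (χ : G → ℂ) y = b → b = ∑ θ : IrrCharacter K, (M θ : ℤ) * v θ := by
    intro y v hv b hb
    rw [hM y] at hb
    have h2 : ((∑ θ : IrrCharacter K, (M θ : ℤ) * v θ : ℤ) : ℂ) = b := by
      rw [← hb]
      push_cast
      exact Finset.sum_congr rfl fun θ _ => by rw [hv]
    exact_mod_cast h2.symm
  rcases h with h | ⟨θ, e', he', c, hc, h1, h2⟩
  · left
    intro y v hv b hyb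
    rw [hb y v hv b hyb]
    refine Finset.dvd_sum fun θ _ => ?_
    exact Dvd.dvd.mul_right (by exact_mod_cast h θ) _
  · right
    refine ⟨θ, e', he', c, hc, fun y v hv b hyb => ?_⟩
    rw [hb y v hv b hyb, ← Finset.sum_filter_add_sum_filter_not Finset.univ (fun θ' => θ' ∈ orb P K (θ : K → ℂ)),
      Finset.filter_mem_eq_inter, Finset.univ_inter, add_sub_right_comm, Finset.mul_sum, ← Finset.sum_sub_distrib]
    refine dvd_add (Finset.dvd_sum fun θ' hθ' => ?_) (Finset.dvd_sum fun θ' hθ' => ?_)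
    · rw [← sub_mul]
      exact Dvd.dvd.mul_right (h1 θ' hθ') _
    · exact Dvd.dvd.mul_right (by exact_mod_cast h2 θ' (Finset.mem_filter.1 hθ').2) _

end Cfsg.Agent.H26.Ore.Gen
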