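import Cfsg.Agent.H26.Ore.Gen
import Cfsg.Agent.H729.Norm

/-!
# Normal subgroups and irreducible characters (helper26)

`A` normal in `K`, `θ` irreducible.
* `dich` : `θ (a y) = θ y` for all `a ∈ A`, or `∑ a, θ (a y) = 0` for all `y`;
* `pm` : `z ^ 2 = 1`, `z` central modulo `A`, `A` in the kernel: `θ z = ± θ 1`, with the same sign for `z a`;
* `sum_sq`, `sum_mul` : the characters with `A` in the kernel.
-/

set_option autoImplicit false
set_option linter.unusedSectionVars false

open Cfsg
open scoped ComplexConjugate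

namespace Cfsg.Agent.H26.Ore.Nrm

open Subgroup
open Cfsg.Agent.Characters.Core

universe u

/-- the value at an involution is an integer -/
theorem exists_int_invol {G : Type u} [Group G] {χ : G → ℂ} (hχ : IsCharacter G χ) {t : G} (ht : t * t = 1) :
    ∃ z : ℤ, χ t = z := by
  obtain ⟨m, h1, h2, -⟩ := H729.Norm.exists_mult hχ (p := 2) (by norm_num) (by rw [pow_two, ht])
  rw [Finset.sum_range_succ, Finset.sum_range_succ, Finset.sum_range_zero, zero_add] at h1
  rw [Finset.sum_range_succ, Finset.sum_range_succ, Finset.sum_range_zero, zero_add, pow_zero, pow_one, ← h1] at h2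
  refine ⟨(m 0 : ℤ) - m 1, ?_⟩
  push_cast
  push_cast at h2
  linear_combination h2

variable {K : Type u} [Group K] [Finite K]

/-- **dichotomy** -/
theorem dich (A : Subgroup K) [hA : A.Normal] {θ : K → ℂ} (hθ : IsIrrCharacter K θ) [Fintype A] :
    (∀ a ∈ A, ∀ y : K, θ (a * y) = θ y) ∨ ∀ y : K, ∑ a : A, θ (a * y) = 0 := by
  classical
  obtain ⟨n, ρ, hρ, rfl⟩ := hθ
  have hρi := hρ
  let W : Subrepresentation ρ :=
    { toSubmodule :=
        { carrier := {v | ∀ a ∈ A, ρ a v = v}
          zero_mem' := fun a _ => map_zero _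
          add_mem' := fun {v w} hv hw a ha => by rw [map_add, hv a ha, hw a ha]
          smul_mem' := fun c v hv a ha => by rw [map_smul, hv a ha] }
      apply_mem_toSubmodule := by
        intro g v hv a ha
        have h1 : g⁻¹ * a * g ∈ A := by
          have := hA.conj_mem a ha g⁻¹
          rwa [inv_inv] at this
        have h2 : ρ a (ρ g v) = ρ g (ρ (g⁻¹ * a * g) v) := by
          rw [← Module.End.mul_apply, ← Module.End.mul_apply, ← map_mul, ← map_mul]
          congr 2
          group
        rw [h2, hv _ h1] }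
  rcases hρi.eq_bot_or_eq_top W with h | h
  · right
    intro y
    have hT : ∑ a : A, ρ (a : K) = 0 := by
      apply LinearMap.ext
      intro v
      have h1 : (∑ a : A, ρ (a : K)) v ∈ W.toSubmodule := by
        intro b hb
        rw [LinearMap.sum_apply, map_sum]
        rw [← Equiv.sum_comp (Equiv.mulLeft (⟨b, hb⟩ : A)) (fun a : A => ρ (a : K) v)]
        refine Finset.sum_congr rfl fun a _ => ?_
        rw [← Module.End.mul_apply, ← map_mul]
        rfl
      rw [h] at h1
      exact h1
    have h2 : ∑ a : A, ρ.character ((a : K) * y) = LinearMap.trace ℂ _ ((∑ a : A, ρ (a : K)) * ρ y) := by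
      rw [Finset.sum_mul, map_sum]
      refine Finset.sum_congr rfl fun a _ => ?_
      rw [← map_mul]
      rfl
    rw [h2, hT, zero_mul, map_zero]
  · left
    intro a ha y
    have h1 : ρ a = 1 := by
      apply LinearMap.ext
      intro v
      have : v ∈ W.toSubmodule := by rw [h]; trivial
      exact this a ha
    show LinearMap.trace ℂ _ (ρ (a * y)) = LinearMap.trace ℂ _ (ρ y)
    rw [map_mul, h1, one_mul]

/-- an involution which is central modulo the kernel -/
theorem pm {A : Subgroup K} {θ : K → ℂ} (hθ : IsIrrCharacter K θ) (hA : ∀ a ∈ A, ∀ y : K, θ (a * y) = θ y)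
    [hAn : A.Normal] {z : K} (hz : z * z = 1) (hzc : ∀ y : K, y * z * y⁻¹ * z⁻¹ ∈ A) :
    θ z = θ 1 ∨ θ z = - θ 1 := by
  classical
  obtain ⟨n, ρ, hρ, rfl⟩ := hθ
  have hρi := hρ
  have := Fintype.ofFinite A
  -- the kernel
  have hker : ∀ a ∈ A, ρ a = 1 := by
    let W : Subrepresentation ρ :=
      { toSubmodule :=
          { carrier := {v | ∀ a ∈ A, ρ a v = v}
            zero_mem' := fun a _ => map_zero _
            add_mem' := fun {v w} hv hw a ha => by rw [map_add, hv a ha, hw a ha]
            smul_mem' := fun c v hv a ha => by rw [map_smul, hv a ha] }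
        apply_mem_toSubmodule := by
          intro g v hv a ha
          have h1 : g⁻¹ * a * g ∈ A := by
            have := hAn.conj_mem a ha g⁻¹
            rwa [inv_inv] at this
          have h2 : ρ a (ρ g v) = ρ g (ρ (g⁻¹ * a * g) v) := by
            rw [← Module.End.mul_apply, ← Module.End.mul_apply, ← map_mul, ← map_mul]
            congr 2
            group
          rw [h2, hv _ h1] }
    rcases hρi.eq_bot_or_eq_top W with h | h
    · exfalso
      have hT : ∑ a : A, ρ (a : K) = 0 := by
        apply LinearMap.ext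
        intro v
        have h1 : (∑ a : A, ρ (a : K)) v ∈ W.toSubmodule := by
          intro b hb
          rw [LinearMap.sum_apply, map_sum]
          rw [← Equiv.sum_comp (Equiv.mulLeft (⟨b, hb⟩ : A)) (fun a : A => ρ (a : K) v)]
          refine Finset.sum_congr rfl fun a _ => ?_
          rw [← Module.End.mul_apply, ← map_mul]
          rfl
        rw [h] at h1
        exact h1
      have h2 : ∑ a : A, ρ.character ((a : K) * 1) = LinearMap.trace ℂ _ ((∑ a : A, ρ (a : K)) * ρ 1) := by
        rw [Finset.sum_mul, map_sum]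
        refine Finset.sum_congr rfl fun a _ => ?_
        rw [← map_mul]
        rfl
      rw [hT, zero_mul, map_zero, Finset.sum_congr rfl (fun (a : A) _ => hA (a : K) a.2 1), Finset.sum_const, nsmul_eq_mul,
        mul_eq_zero] at h2
      rcases h2 with h2 | h2
      · have h3 : 0 < Fintype.card A := Fintype.card_pos
        rw [Finset.card_univ] at h2
        exact h3.ne' (by exact_mod_cast h2)
      · exact isIrr_apply_one_ne_zero ⟨n, ρ, hρ, rfl⟩ h2
    · intro a ha
      apply LinearMap.ext
      intro v
      have : v ∈ W.toSubmodule := by rw [h]; trivial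
      exact this a ha
  have hcomm : ∀ y : K, ρ y * ρ z = ρ z * ρ y := by
    intro y
    have h1 := hker _ (hzc y)
    calc ρ y * ρ z = ρ (y * z * y⁻¹ * z⁻¹) * (ρ z * ρ y) := by
          rw [← map_mul, ← map_mul, ← map_mul]; congr 1; group
      _ = ρ z * ρ y := by rw [h1, one_mul]
  have hzz : ρ z * ρ z = 1 := by rw [← map_mul, hz, map_one]
  let U : Subrepresentation ρ :=
    { toSubmodule :=
        { carrier := {v | ρ z v = v}
          zero_mem' := map_zero _
          add_mem' := fun {v w} hv hw => by
            show ρ z (v + w) = v + w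
            rw [map_add, show ρ z v = v from hv, show ρ z w = w from hw]
          smul_mem' := fun c v hv => by
            show ρ z (c • v) = c • v
            rw [map_smul, show ρ z v = v from hv] }
      apply_mem_toSubmodule := by
        intro g v hv
        show ρ z (ρ g v) = ρ g v
        rw [← Module.End.mul_apply, ← hcomm, Module.End.mul_apply, show ρ z v = v from hv] }
  rcases hρi.eq_bot_or_eq_top U with h | h
  · right
    have h1 : ρ z = -1 := by
      apply LinearMap.ext
      intro v
      have h2 : v + ρ z v ∈ U.toSubmodule := by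
        show ρ z (v + ρ z v) = v + ρ z v
        rw [map_add, ← Module.End.mul_apply, hzz, Module.End.one_apply, add_comm]
      rw [h] at h2
      have h3 : v + ρ z v = 0 := h2
      rw [LinearMap.neg_apply, Module.End.one_apply]
      exact (neg_eq_of_add_eq_zero_right h3).symm
    show LinearMap.trace ℂ _ (ρ z) = - LinearMap.trace ℂ _ (ρ 1)
    rw [h1, map_one ρ, map_neg]
  · left
    have h1 : ρ z = 1 := by
      apply LinearMap.ext
      intro v
      have : v ∈ U.toSubmodule := by rw [h]; trivial
      exact this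
    show LinearMap.trace ℂ _ (ρ z) = LinearMap.trace ℂ _ (ρ 1)
    rw [h1, map_one ρ]

open scoped Classical in
/-- the sum over `A` of the second orthogonality relations -/
theorem sum_aux (A : Subgroup K) [hA : A.Normal] [Fintype (IrrCharacter K)] [Fintype A] (y : K) :
    (Fintype.card A : ℂ) * ∑ θ ∈ Finset.univ.filter (fun θ : IrrCharacter K => ∀ a ∈ A, ∀ x : K,
      (θ : K → ℂ) (a * x) = (θ : K → ℂ) x), (θ : K → ℂ) 1 * (θ : K → ℂ) y =
      ∑ θ : IrrCharacter K, (θ : K → ℂ) y * conj (∑ a : A, (θ : K → ℂ) (a * 1)) := by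
  rw [← Finset.sum_filter_add_sum_filter_not Finset.univ
    (fun θ : IrrCharacter K => ∀ a ∈ A, ∀ x : K, (θ : K → ℂ) (a * x) = (θ : K → ℂ) x)
    (fun θ : IrrCharacter K => (θ : K → ℂ) y * conj (∑ a : A, (θ : K → ℂ) (a * 1))), Finset.mul_sum]
  have h3 : ∑ θ ∈ Finset.univ.filter (fun θ : IrrCharacter K => ¬ ∀ a ∈ A, ∀ x : K,
      (θ : K → ℂ) (a * x) = (θ : K → ℂ) x), (θ : K → ℂ) y * conj (∑ a : A, (θ : K → ℂ) (a * 1)) = 0 := by
    refine Finset.sum_eq_zero fun θ hθ => ?_
    rcases dich A θ.2 with h | h
    · exact absurd h (Finset.mem_filter.1 hθ).2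
    · rw [h 1, map_zero, mul_zero]
  rw [h3, add_zero]
  refine Finset.sum_congr rfl fun θ hθ => ?_
  have h := (Finset.mem_filter.1 hθ).2
  rw [Finset.sum_congr rfl (fun (a : A) _ => h (a : K) a.2 1), Finset.sum_const, nsmul_eq_mul, map_mul, map_natCast,
    Finset.card_univ]
  obtain ⟨m, -, hm⟩ := isIrr_apply_one θ.2
  rw [hm, map_natCast]
  ring

open scoped Classical in
/-- the characters with `A` in the kernel: a column outside `A` -/
theorem sum_mul (A : Subgroup K) [hA : A.Normal] [Fintype (IrrCharacter K)] {y : K} (hy : y ∉ A) :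
    ∑ θ ∈ Finset.univ.filter (fun θ : IrrCharacter K => ∀ a ∈ A, ∀ x : K, (θ : K → ℂ) (a * x) = (θ : K → ℂ) x),
      (θ : K → ℂ) 1 * (θ : K → ℂ) y = 0 := by
  have := Fintype.ofFinite K
  have := Fintype.ofFinite A
  have h := sum_aux A y
  have h1 : ∑ θ : IrrCharacter K, (θ : K → ℂ) y * conj (∑ a : A, (θ : K → ℂ) (a * 1)) = 0 := by
    have h2 : ∀ θ : IrrCharacter K, (θ : K → ℂ) y * conj (∑ a : A, (θ : K → ℂ) (a * 1)) =
        ∑ a : A, (θ : K → ℂ) y * conj ((θ : K → ℂ) a) := by
      intro θ
      rw [map_sum, Finset.mul_sum]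
      exact Finset.sum_congr rfl fun a _ => by rw [mul_one]
    rw [Finset.sum_congr rfl fun θ _ => h2 θ, Finset.sum_comm, Finset.sum_eq_zero]
    intro a _
    rw [S0145.sum_irr_mul_conj, if_neg]
    intro h
    obtain ⟨c, hc⟩ := isConj_iff.1 h.symm
    exact hy (hc ▸ hA.conj_mem a a.2 c)
  rw [h1, mul_eq_zero] at h
  rcases h with h | h
  · exact absurd h (by exact_mod_cast Fintype.card_ne_zero)
  · exact h

open scoped Classical in
/-- the characters with `A` in the kernel: the squares of the degrees -/
theorem sum_sq (A : Subgroup K) [hA : A.Normal] [Fintype (IrrCharacter K)] :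
    (Nat.card A : ℂ) * ∑ θ ∈ Finset.univ.filter (fun θ : IrrCharacter K => ∀ a ∈ A, ∀ x : K,
      (θ : K → ℂ) (a * x) = (θ : K → ℂ) x), (θ : K → ℂ) 1 * (θ : K → ℂ) 1 = Nat.card K := by
  have := Fintype.ofFinite K
  have := Fintype.ofFinite A
  have h := sum_aux A (1 : K)
  rw [Nat.card_eq_fintype_card, h]
  have h2 : ∀ θ : IrrCharacter K, (θ : K → ℂ) 1 * conj (∑ a : A, (θ : K → ℂ) (a * 1)) =
      ∑ a : A, (θ : K → ℂ) 1 * conj ((θ : K → ℂ) a) := by
    intro θ
    rw [map_sum, Finset.mul_sum]
    exact Finset.sum_congr rfl fun a _ => by rw [mul_one]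
  rw [Finset.sum_congr rfl fun θ _ => h2 θ, Finset.sum_comm, Finset.sum_eq_single (1 : A)]
  · rw [S0145.sum_irr_mul_conj, if_pos (by exact IsConj.refl _), OneMemClass.coe_one,
      show centralizer ({1} : Set K) = ⊤ from eq_top_iff.2 fun g _ => mem_centralizer_singleton_iff.2 (by simp),
      card_top]
  · intro a _ ha
    rw [S0145.sum_irr_mul_conj, if_neg]
    intro h
    apply ha
    have := isConj_one_right.1 h
    exact Subtype.ext this
  · intro h
    exact absurd (Finset.mem_univ _) h

end Cfsg.Agent.H26.Ore.Nrm
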