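import Cfsg.Agent.H26.Ore.Rel
import Cfsg.Agent.H256.Sep.FiData
import Cfsg.Agent.H201.Fi.Arith2

/-!
# Residues modulo 13 of the characters of the subgroup of index 2 of a group of type `M(24)` (helper26)

`T13Concl.Facts G D l k u v x s`, `H` of index 2, `D ∩ H = ∅`: for `χ ∈ Irr H` the residues modulo 13 of `χ 1` and
`χ (l u)`.
-/

set_option autoImplicit false
set_option linter.unusedSectionVars false

open Cfsg

namespace Cfsg.Agent.H26.Ore.R13

open Subgroup
open Cfsg.Agent.SmallSimple.ThetaSetup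
open Cfsg.Agent.H845.T13Concl

universe u

/-! ### Subgroups of index 2 -/

section

variable {G : Type u} [Group G]

theorem cen_sub (H : Subgroup G) (S : Subgroup H) :
    centralizer (S : Set H) = (centralizer ((S.map H.subtype : Subgroup G) : Set G)).subgroupOf H := by
  ext g
  rw [mem_subgroupOf, mem_centralizer_iff, mem_centralizer_iff]
  constructor
  · rintro h _ ⟨s, hs, rfl⟩
    exact congrArg (fun y : H => (y : G)) (h s hs)
  · intro h s hs
    exact Subtype.ext (h s ⟨s, hs, rfl⟩)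

theorem norm_sub (H : Subgroup G) (S : Subgroup H) :
    normalizer (S : Set H) = (normalizer ((S.map H.subtype : Subgroup G) : Set G)).subgroupOf H := by
  have key : ∀ s : H, s ∈ S ↔ (s : G) ∈ S.map H.subtype := fun s => by
    constructor
    · exact fun h => ⟨s, h, rfl⟩
    · rintro ⟨t, ht, h⟩
      rwa [← Subtype.ext h]
  ext g
  rw [mem_subgroupOf, mem_normalizer_iff, mem_normalizer_iff]
  constructor
  · intro h y
    constructor
    · rintro ⟨s, hs, rfl⟩
      exact ⟨g * s * g⁻¹, (h s).1 hs, rfl⟩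
    · rintro ⟨s, hs, h2⟩
      have h3 : y = ((g⁻¹ * s * g : H) : G) := by
        have h4 : (s : G) = g * y * (g : G)⁻¹ := h2
        show y = (g : G)⁻¹ * s * g
        rw [h4]; group
      rw [h3]
      refine ⟨g⁻¹ * s * g, (h _).2 ?_, rfl⟩
      have h4 : g * (g⁻¹ * s * g) * g⁻¹ = s := by group
      rw [h4]
      exact hs
  · intro h s
    rw [key, key, h]
    rfl

theorem card_mul_relIndex [Finite G] {A B : Subgroup G} (h : A ≤ B) : Nat.card A * A.relIndex B = Nat.card B := by
  have := card_mul_index (A.subgroupOf B)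
  rwa [Nat.card_congr (subgroupOfEquivOfLe h).toEquiv] at this

theorem card_sub [Finite G] {H C : Subgroup G} (hH : H.index = 2) {l : G} (hl : l ∈ C) (hlH : l ∉ H) :
    2 * Nat.card (C.subgroupOf H) = Nat.card C := by
  have hn : H.Normal := normal_of_index_eq_two hH
  have h1 : H.relIndex C ∣ 2 := hH ▸ relIndex_dvd_index_of_normal H C
  have h2 : H.relIndex C ≠ 1 := fun h => hlH (relIndex_eq_one.1 h hl)
  have h3 : H.relIndex C = 2 := ((Nat.dvd_prime Nat.prime_two).1 h1).resolve_left h2
  have h4 := card_mul_index (H.subgroupOf C)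
  have h5 : Nat.card (H.subgroupOf C) = Nat.card (C.subgroupOf H) := by
    have e1 := Nat.card_congr ((H.subgroupOf C).equivMapOfInjective C.subtype C.subtype_injective).toEquiv
    have e2 := Nat.card_congr ((C.subgroupOf H).equivMapOfInjective H.subtype H.subtype_injective).toEquiv
    rw [subgroupOf_map_subtype] at e1 e2
    rw [e1, e2, inf_comm]
  rw [h5, show (H.subgroupOf C).index = 2 from h3] at h4
  omega

end

/-! ### The subgroup `⟨l k, u v⟩` -/

section

variable {G : Type u} [Group G]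

/-- `⟨l k, u v⟩` -/
def A (l k u v : G) : Subgroup G := zpowers (l * k) ⊔ zpowers (u * v)

theorem cube {l k : G} (ll : l * l = 1) (kk : k * k = 1) (lk : l * k * l = k * l * k) : (l * k) ^ 3 = 1 := by
  have h : l * k * (l * k) * (l * k) = 1 := by
    calc l * k * (l * k) * (l * k) = (l * k * l) * (k * l * k) := by group
      _ = (k * l * k) * (k * l * k) := by rw [lk]
      _ = k * l * (k * k) * l * k := by group
      _ = k * (l * l) * k := by rw [kk]; group
      _ = 1 := by rw [ll, mul_one, kk]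
  rw [pow_succ, pow_two, h]

variable {D : Set G} {l k u v x s : G} (h : Facts G D l k u v x s)

include h

theorem commlk : Commute (l * k) (u * v) :=
  ((show Commute l u from h.lu).mul_right (show Commute l v from h.lv)).mul_left
    ((show Commute k u from h.ku).mul_right (show Commute k v from h.kv))

theorem comm_z : ∀ (a : zpowers (l * k)) (b : zpowers (u * v)),
    Commute ((zpowers (l * k)).subtype a) ((zpowers (u * v)).subtype b) := by
  rintro ⟨_, i, rfl⟩ ⟨_, j, rfl⟩
  exact ((commlk h).zpow_left i).zpow_right j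

theorem order_lk : orderOf (l * k) = 3 := by
  have : Fact (Nat.Prime 3) := ⟨Nat.prime_three⟩
  refine orderOf_eq_prime (cube h.ll h.kk h.lk) fun h1 => h.lkn ?_
  have h2 : k = l⁻¹ := eq_inv_of_mul_eq_one_right h1
  rw [h2, mul_inv_cancel, inv_mul_cancel]

theorem order_uv : orderOf (u * v) = 3 := by
  have : Fact (Nat.Prime 3) := ⟨Nat.prime_three⟩
  refine orderOf_eq_prime (cube h.uu h.vv h.uv) fun h1 => h.uvn ?_
  have h2 : v = u⁻¹ := eq_inv_of_mul_eq_one_right h1
  rw [h2, mul_inv_cancel, inv_mul_cancel]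

/-- `l` commutes with `⟨u v⟩` but with no non-trivial element of `⟨l k⟩` -/
theorem disj : Disjoint (zpowers (l * k)) (zpowers (u * v)) := by
  rw [disjoint_def]
  intro y hy1 hy2
  -- y is inverted and centralized by l
  have h1 : l * y * l⁻¹ = y⁻¹ := by
    obtain ⟨i, rfl⟩ := hy1
    show l * (l * k) ^ i * l⁻¹ = ((l * k) ^ i)⁻¹
    rw [← conj_zpow, ← inv_zpow]
    congr 1
    have : l⁻¹ = l := inv_eq_of_mul_eq_one_right h.ll
    rw [mul_inv_rev, this, inv_eq_of_mul_eq_one_right h.kk, ← mul_assoc, h.ll, one_mul]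
  have h2 : l * y * l⁻¹ = y := by
    obtain ⟨j, rfl⟩ := hy2
    have h3 : Commute l ((u * v) ^ j) :=
      ((show Commute l u from h.lu).mul_right (show Commute l v from h.lv)).zpow_right j
    show l * (u * v) ^ j * l⁻¹ = (u * v) ^ j
    rw [h3.eq, mul_inv_cancel_right]
  have h3 : y * y = 1 := by
    have : y = y⁻¹ := h2.symm.trans h1
    nth_rewrite 2 [this]
    exact mul_inv_cancel y
  have h4 : y ^ 3 = 1 := by
    obtain ⟨i, rfl⟩ := hy1
    show ((l * k) ^ i) ^ 3 = 1
    rw [← zpow_natCast, ← zpow_mul, mul_comm i, zpow_mul, zpow_natCast, cube h.ll h.kk h.lk, one_zpow]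
  rw [pow_succ, pow_two, h3, one_mul] at h4
  exact h4

theorem card_A : Nat.card (A l k u v) = 9 := by
  have hinj : Function.Injective (MonoidHom.noncommCoprod (zpowers (l * k)).subtype (zpowers (u * v)).subtype
      (comm_z h)) := by
    rw [MonoidHom.noncommCoprod_injective]
    refine ⟨subtype_injective _, subtype_injective _, ?_⟩
    rw [range_subtype, range_subtype]
    exact disj h
  have hr := MonoidHom.noncommCoprod_range (zpowers (l * k)).subtype (zpowers (u * v)).subtype (comm_z h)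
  rw [range_subtype, range_subtype] at hr
  have h1 := Nat.card_congr (MonoidHom.ofInjective hinj).toEquiv
  rw [hr, Nat.card_prod, Nat.card_zpowers, Nat.card_zpowers, order_lk h, order_uv h] at h1
  exact h1.symm

theorem exists_of_mem {a : G} (ha : a ∈ A l k u v) : ∃ b ∈ zpowers (l * k), ∃ c ∈ zpowers (u * v), b * c = a := by
  have hr := MonoidHom.noncommCoprod_range (zpowers (l * k)).subtype (zpowers (u * v)).subtype (comm_z h)
  rw [range_subtype, range_subtype] at hr
  rw [A, ← hr] at ha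
  obtain ⟨⟨b, c⟩, rfl⟩ := ha
  exact ⟨b, b.2, c, c.2, rfl⟩

theorem cube_A {a : G} (ha : a ∈ A l k u v) : a * a * a = 1 := by
  obtain ⟨b, ⟨i, rfl⟩, c, ⟨j, rfl⟩, rfl⟩ := exists_of_mem h ha
  have h1 : Commute ((l * k) ^ i) ((u * v) ^ j) := ((commlk h).zpow_left i).zpow_right j
  have h2 : ((l * k) ^ i * (u * v) ^ j) ^ 3 = 1 := by
    rw [h1.mul_pow, ← zpow_natCast, ← zpow_natCast, ← zpow_mul, ← zpow_mul, mul_comm i, mul_comm j, zpow_mul, zpow_mul,
      zpow_natCast, zpow_natCast, cube h.ll h.kk h.lk, cube h.uu h.vv h.uv, one_zpow, one_zpow, one_mul]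
  rw [pow_succ, pow_two] at h2
  exact h2

omit h in
/-- products of two members of a triple -/
theorem tri_mul {a b p q : G} (aa : a * a = 1) (bb : b * b = 1) (ab : a * b * a = b * a * b) (hp : Tri a b p)
    (hq : Tri a b q) : p * q ∈ zpowers (a * b) := by
  have h0 : a * b ∈ zpowers (a * b) := mem_zpowers _
  have h1 : b * a ∈ zpowers (a * b) := by
    have h2 := inv_mem h0
    rwa [mul_inv_rev, inv_eq_of_mul_eq_one_right aa, inv_eq_of_mul_eq_one_right bb] at h2
  have e1 : a * (a * b * a) = b * a := by rw [mul_assoc a b a, ← mul_assoc, aa, one_mul]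
  have e2 : b * (a * b * a) = a * b := by rw [ab, mul_assoc b a b, ← mul_assoc, bb, one_mul]
  have e3 : a * b * a * a = a * b := by rw [mul_assoc _ a a, aa, mul_one]
  have e4 : a * b * a * b = b * a := by rw [ab, mul_assoc _ b b, bb, mul_one]
  have e5 : a * b * a * (a * b * a) = 1 := by
    calc a * b * a * (a * b * a) = a * b * (a * a) * b * a := by group
      _ = a * (b * b) * a := by rw [aa]; group
      _ = 1 := by rw [bb, mul_one, aa]
  rcases hp with rfl | rfl | rfl <;> rcases hq with rfl | rfl | rfl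
  · rw [aa]; exact one_mem _
  · exact h0
  · rw [e1]; exact h1
  · exact h1
  · rw [bb]; exact one_mem _
  · rw [e2]; exact h0
  · rw [e3]; exact h0
  · rw [e4]; exact h1
  · rw [e5]; exact one_mem _

/-- the two cases -/
theorem tri_all {g : G} (hg : g ∈ normalizer ((zpowers x : Subgroup G) : Set G)) :
    (Tri l k (g * l * g⁻¹) ∧ Tri l k (g * k * g⁻¹) ∧ Tri u v (g * u * g⁻¹) ∧ Tri u v (g * v * g⁻¹)) ∨
      (Tri u v (g * l * g⁻¹) ∧ Tri u v (g * k * g⁻¹) ∧ Tri l k (g * u * g⁻¹) ∧ Tri l k (g * v * g⁻¹)) := by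
  rcases six h hg h.hl h.xl.symm with h1 | h1
  · exact Or.inl ⟨h1, (pres h hg h1).1, (pres h hg h1).2.1, (pres h hg h1).2.2⟩
  · right
    have hc : ∀ {a b : G}, a * b = b * a → g * a * g⁻¹ * (g * b * g⁻¹) = g * b * g⁻¹ * (g * a * g⁻¹) := by
      intro a b hab
      calc g * a * g⁻¹ * (g * b * g⁻¹) = g * (a * b) * g⁻¹ := by group
        _ = g * (b * a) * g⁻¹ := by rw [hab]
        _ = g * b * g⁻¹ * (g * a * g⁻¹) := by group
    have hc' : ∀ {a b : G}, g * a * g⁻¹ * (g * b * g⁻¹) = g * b * g⁻¹ * (g * a * g⁻¹) → a * b = b * a := by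
      intro a b hab
      have : g * (a * b) * g⁻¹ = g * (b * a) * g⁻¹ := by
        calc g * (a * b) * g⁻¹ = g * a * g⁻¹ * (g * b * g⁻¹) := by group
          _ = g * b * g⁻¹ * (g * a * g⁻¹) := hab
          _ = g * (b * a) * g⁻¹ := by group
      exact mul_left_cancel (mul_right_cancel this)
    have hne : g * l * g⁻¹ ≠ g * k * g⁻¹ := fun e => h.lkn (by
      have : l = k := mul_left_cancel (mul_right_cancel e)
      rw [this])
    have h2 : Tri u v (g * k * g⁻¹) := by
      rcases six h hg h.hk h.xk.symm with h2 | h2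
      · exact absurd (hc' (tri_comm h h2 h1).symm) h.lkn
      · exact h2
    have h3 : ∀ y ∈ D, y * x = x * y → l * y = y * l → k * y = y * k → Tri l k (g * y * g⁻¹) := by
      intro y hy hyx hly hky
      rcases six h hg hy hyx with h3 | h3
      · exact h3
      · exact (not_comm_two h.uu h.vv h.uv h.uvn h1 h2 h3 hne (hc hly).symm (hc hky).symm).elim
    exact ⟨h1, h2, h3 u h.hu h.xu.symm h.lu h.ku, h3 v h.hv h.xv.symm h.lv h.kv⟩

/-- `N(⟨x⟩)` normalizes `⟨l k, u v⟩` -/
theorem norm_A {g : G} (hg : g ∈ normalizer ((zpowers x : Subgroup G) : Set G)) :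
    ∀ a ∈ A l k u v, g * a * g⁻¹ ∈ A l k u v := by
  have h1 : g * (l * k) * g⁻¹ ∈ A l k u v ∧ g * (u * v) * g⁻¹ ∈ A l k u v := by
    have e1 : g * (l * k) * g⁻¹ = g * l * g⁻¹ * (g * k * g⁻¹) := by group
    have e2 : g * (u * v) * g⁻¹ = g * u * g⁻¹ * (g * v * g⁻¹) := by group
    rw [e1, e2]
    rcases tri_all h hg with ⟨a1, a2, a3, a4⟩ | ⟨a1, a2, a3, a4⟩
    · exact ⟨mem_sup_left (tri_mul h.ll h.kk h.lk a1 a2), mem_sup_right (tri_mul h.uu h.vv h.uv a3 a4)⟩
    · exact ⟨mem_sup_right (tri_mul h.uu h.vv h.uv a1 a2), mem_sup_left (tri_mul h.ll h.kk h.lk a3 a4)⟩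
  have h2 : (A l k u v).map (MulAut.conj g).toMonoidHom ≤ A l k u v := by
    rw [A, Subgroup.map_sup, MonoidHom.map_zpowers, MonoidHom.map_zpowers]
    refine sup_le ?_ ?_
    · rw [zpowers_le]; exact h1.1
    · rw [zpowers_le]; exact h1.2
  intro a ha
  exact h2 ⟨a, ha, rfl⟩

theorem z_aux {p q : G} (hp : Tri l k p) (hq : Tri u v q) : p * q * (u * l) ∈ A l k u v := by
  have e2 : q * u * l = l * (q * u) :=
    ((show Commute l q from tri_comm h (Or.inl rfl) hq).mul_right (show Commute l u from h.lu)).eq.symm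
  have e1 : p * q * (u * l) = p * l * (q * u) := by
    calc p * q * (u * l) = p * (q * u * l) := by group
      _ = p * l * (q * u) := by rw [e2]; group
  rw [e1]
  exact mul_mem (mem_sup_left (tri_mul h.ll h.kk h.lk hp (Or.inl rfl)))
    (mem_sup_right (tri_mul h.uu h.vv h.uv hq (Or.inl rfl)))

theorem norm_z {g : G} (hg : g ∈ normalizer ((zpowers x : Subgroup G) : Set G)) :
    g * (l * u) * g⁻¹ * (l * u)⁻¹ ∈ A l k u v := by
  have il : l⁻¹ = l := inv_eq_of_mul_eq_one_right h.ll
  have iu : u⁻¹ = u := inv_eq_of_mul_eq_one_right h.uu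
  have e : g * (l * u) * g⁻¹ * (l * u)⁻¹ = g * l * g⁻¹ * (g * u * g⁻¹) * (u * l) := by
    rw [mul_inv_rev, il, iu]; group
  rw [e]
  rcases tri_all h hg with ⟨a1, -, a3, -⟩ | ⟨a1, -, a3, -⟩
  · exact z_aux h a1 a3
  · rw [← tri_comm h a3 a1]
    exact z_aux h a3 a1

theorem z_inv {a : G} (ha : a ∈ A l k u v) : l * u * a * (l * u)⁻¹ = a⁻¹ := by
  obtain ⟨b, ⟨i, rfl⟩, c, ⟨j, rfl⟩, rfl⟩ := exists_of_mem h ha
  have il : l⁻¹ = l := inv_eq_of_mul_eq_one_right h.ll
  have iu : u⁻¹ = u := inv_eq_of_mul_eq_one_right h.uu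
  have ik : k⁻¹ = k := inv_eq_of_mul_eq_one_right h.kk
  have iv : v⁻¹ = v := inv_eq_of_mul_eq_one_right h.vv
  have hc : Commute ((l * k) ^ i) ((u * v) ^ j) := ((commlk h).zpow_left i).zpow_right j
  have e1 : l * u * (l * k) * (l * u)⁻¹ = (l * k)⁻¹ := by
    have h1 : Commute u (l * k) := (show Commute u l from h.lu.symm).mul_right (show Commute u k from h.ku.symm)
    calc l * u * (l * k) * (l * u)⁻¹ = l * (u * (l * k)) * u⁻¹ * l⁻¹ := by group
      _ = l * l * k * l⁻¹ := by rw [h1.eq]; group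
      _ = (l * k)⁻¹ := by rw [h.ll, one_mul, mul_inv_rev, ik]
  have e2 : l * u * (u * v) * (l * u)⁻¹ = (u * v)⁻¹ := by
    have h1 : Commute l v := h.lv
    calc l * u * (u * v) * (l * u)⁻¹ = l * (u * u) * v * u⁻¹ * l⁻¹ := by group
      _ = l * v * u⁻¹ * l⁻¹ := by rw [h.uu, mul_one]
      _ = l * (u * v)⁻¹ * l⁻¹ := by rw [mul_inv_rev, iv]; group
      _ = (u * v)⁻¹ := by
        have h2 : Commute l (u * v)⁻¹ :=
          ((show Commute l u from h.lu).mul_right h1).inv_right
        rw [h2.eq, mul_inv_cancel_right]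
  have e3 : l * u * ((l * k) ^ i * (u * v) ^ j) * (l * u)⁻¹ =
      (l * u * (l * k) ^ i * (l * u)⁻¹) * (l * u * (u * v) ^ j * (l * u)⁻¹) := by group
  show l * u * ((l * k) ^ i * (u * v) ^ j) * (l * u)⁻¹ = ((l * k) ^ i * (u * v) ^ j)⁻¹
  rw [e3, ← conj_zpow, ← conj_zpow, e1, e2, inv_zpow, inv_zpow, hc.eq, mul_inv_rev]

theorem T_le_C : closure ({l, u, v, k} : Set G) ≤ centralizer ((zpowers x : Subgroup G) : Set G) := by
  rw [closure_le]
  intro y hy
  rw [SetLike.mem_coe, mem_centralizer_iff]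
  intro z hz
  obtain ⟨n, rfl⟩ := mem_zpowers_iff.1 hz
  have h2 : Commute x y := by
    rcases hy with rfl | rfl | rfl | rfl
    exacts [h.xl, h.xu, h.xv, h.xk]
  exact h2.zpow_left n

theorem lu_comm : ∀ a ∈ closure ({l, k} : Set G), ∀ b ∈ closure ({u, v} : Set G), a * b = b * a := by
  have h4 : closure ({l, k} : Set G) ≤ centralizer ((closure ({u, v} : Set G) : Subgroup G) : Set G) := by
    rw [closure_le]
    intro y hy
    rw [SetLike.mem_coe, centralizer_closure, mem_centralizer_iff]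
    rcases hy with rfl | rfl
    · rintro z (rfl | rfl)
      exacts [h.lu.symm, h.lv.symm]
    · rintro z (rfl | rfl)
      exacts [h.ku.symm, h.kv.symm]
  intro a ha b hb
  exact (mem_centralizer_iff.1 (h4 ha) b hb).symm

theorem FT_comm : ∀ a ∈ centralizer ({l, k, u, v} : Set G), ∀ b ∈ closure ({l, u, v, k} : Set G), a * b = b * a := by
  intro a ha b hb
  have h3 : a ∈ centralizer ((closure ({l, u, v, k} : Set G) : Subgroup G) : Set G) := by
    rw [centralizer_closure]
    have h4 : ({l, u, v, k} : Set G) = {l, k, u, v} := by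
      ext y
      simp only [Set.mem_insert_iff, Set.mem_singleton_iff]
      tauto
    rw [h4]
    exact ha
  exact (mem_centralizer_iff.1 h3 b hb).symm

/-- the centralizer of `x` -/
theorem card_C_le [Finite G] (hT : Nat.card ↥(closure ({l, u, v, k} : Set G)) ∣ 36) :
    Nat.card (centralizer ((zpowers x : Subgroup G) : Set G)) ≤ 936 := by
  set N := normalizer ((zpowers x : Subgroup G) : Set G) with hN
  set C := centralizer ((zpowers x : Subgroup G) : Set G) with hC
  set F := centralizer ({l, k, u, v} : Set G) ⊓ N with hF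
  set T := closure ({l, u, v, k} : Set G) with hTd
  have hCN : C ≤ N := centralizer_le_normalizer _
  have hTC : T ≤ C := T_le_C h
  have hle : (F ⊔ T) ⊓ C ≤ zpowers x ⊔ T := by
    rintro g ⟨hg, hgC⟩
    have hc : ∀ (a : F) (b : T), Commute (F.subtype a) (T.subtype b) := fun a b => FT_comm h a a.2.1 b b.2
    have hr := MonoidHom.noncommCoprod_range F.subtype T.subtype hc
    rw [range_subtype, range_subtype] at hr
    rw [SetLike.mem_coe, ← hr] at hg
    obtain ⟨⟨f, t⟩, rfl⟩ := hg
    have h1 : (f : G) * t ∈ C := hgC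
    have h2 : (f : G) ∈ C := by
      have := mul_mem h1 (inv_mem (hTC t.2))
      rwa [mul_inv_cancel_right] at this
    have h3 : (f : G) ∈ zpowers x := by
      rw [← inf_cen h]
      exact ⟨f.2.1, h2⟩
    exact mul_mem (mem_sup_left h3) (mem_sup_right t.2)
  have hM : Nat.card ↥(zpowers x ⊔ T) ≤ 13 * 36 := by
    have hc : ∀ (a : zpowers x) (b : T), Commute ((zpowers x).subtype a) (T.subtype b) := fun a b =>
      (mem_centralizer_iff.1 (hTC b.2) a a.2)
    have hr := MonoidHom.noncommCoprod_range (zpowers x).subtype T.subtype hc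
    rw [range_subtype, range_subtype] at hr
    rw [← hr]
    have h1 := card_range_dvd (MonoidHom.noncommCoprod (zpowers x).subtype T.subtype hc)
    rw [Nat.card_prod, card_x h] at h1
    exact Nat.le_of_dvd (by norm_num) (h1.trans (Nat.mul_dvd_mul_left _ hT))
  have hi : (F ⊔ T).relIndex C ∣ 2 := by
    have h1 : ((F ⊔ T).subgroupOf N).index = 2 := index_N1 h
    have hn : ((F ⊔ T).subgroupOf N).Normal := normal_of_index_eq_two h1
    have h2 := relIndex_dvd_index_of_normal ((F ⊔ T).subgroupOf N) (C.subgroupOf N)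
    rwa [relIndex_subgroupOf hCN, h1] at h2
  have h3 := card_mul_index ((F ⊔ T).subgroupOf C)
  have h4 : Nat.card ((F ⊔ T).subgroupOf C) ≤ 13 * 36 := by
    have e1 := Nat.card_congr (((F ⊔ T).subgroupOf C).equivMapOfInjective C.subtype C.subtype_injective).toEquiv
    rw [subgroupOf_map_subtype] at e1
    rw [e1]
    exact (card_le_of_le hle).trans hM
  have h5 : ((F ⊔ T).subgroupOf C).index ≤ 2 := Nat.le_of_dvd (by norm_num) hi
  calc Nat.card C = Nat.card ((F ⊔ T).subgroupOf C) * ((F ⊔ T).subgroupOf C).index := h3.symm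
    _ ≤ 13 * 36 * 2 := Nat.mul_le_mul h4 h5
    _ = 936 := by norm_num

/-- `|N(⟨x⟩) : C(x)|` -/
theorem six_dvd [Finite G] : 6 ∣ (centralizer ((zpowers x : Subgroup G) : Set G)).relIndex
    (normalizer ((zpowers x : Subgroup G) : Set G)) := by
  set N := normalizer ((zpowers x : Subgroup G) : Set G) with hN
  set C := centralizer ((zpowers x : Subgroup G) : Set G) with hC
  set F := centralizer ({l, k, u, v} : Set G) ⊓ N with hF
  have hCN : C ≤ N := centralizer_le_normalizer _
  have h1 := card_mul_index (C.subgroupOf F)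
  have h2 : Nat.card (C.subgroupOf F) = 13 := by
    have e1 := Nat.card_congr ((C.subgroupOf F).equivMapOfInjective F.subtype F.subtype_injective).toEquiv
    rw [subgroupOf_map_subtype] at e1
    rw [e1]
    have e2 : C ⊓ F = zpowers x := by
      rw [← inf_cen h, hF]
      apply le_antisymm
      · rintro y ⟨a, b⟩
        exact ⟨b.1, a⟩
      · rintro y ⟨a, b⟩
        exact ⟨b, a, hCN b⟩
    rw [e2, card_x h]
  rw [h2, show Nat.card F = 78 from card_NK h] at h1
  have h3 : C.relIndex F = 6 := by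
    show (C.subgroupOf F).index = 6
    omega
  have hn : (C.subgroupOf N).Normal := by
    rw [hC, hN, ← normalizerMonoidHom_ker]
    infer_instance
  have h4 := relIndex_dvd_index_of_normal (C.subgroupOf N) (F.subgroupOf N)
  rw [relIndex_subgroupOf inf_le_right, h3] at h4
  exact h4

theorem card_T [Finite G] : Nat.card ↥(closure ({l, u, v, k} : Set G)) ∣ 36 := by
  have hTe : closure ({l, u, v, k} : Set G) = closure ({l, k} : Set G) ⊔ closure ({u, v} : Set G) := by
    rw [← Subgroup.closure_union]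
    congr 1
    ext y
    simp only [Set.mem_insert_iff, Set.mem_singleton_iff, Set.mem_union]
    tauto
  rw [hTe]
  have h3 := H256.Sep.FiData.card_sup_dvd (lu_comm h)
  rw [H256.Sep.FiData.card_closure_pair h.ll h.kk h.lk h.lkn,
    H256.Sep.FiData.card_closure_pair h.uu h.vv h.uv h.uvn] at h3
  exact h3

/-- **residues modulo 13**, `H` of index 2 -/
theorem r13 [Finite G] {H : Subgroup G} (hH : H.index = 2) (hodd : ∀ d ∈ D, d ∉ H) (hm : l * u ∈ H)
    (χ : IrrCharacter H) {n b : ℤ} (hn : (χ : H → ℂ) 1 = n) (hb : (χ : H → ℂ) ⟨l * u, hm⟩ = b) :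
    H201.Fi.R13 n b := by
  have hp13 : Nat.Prime 13 := by norm_num
  have : Fact (Nat.Prime 13) := ⟨hp13⟩
  have hHn : H.Normal := normal_of_index_eq_two hH
  have hmul : ∀ {a c : G}, a ∈ D → c ∈ D → a * c ∈ H := fun {a c} ha hc =>
    (mul_mem_iff_of_index_two hH).2 ⟨fun h1 => absurd h1 (hodd a ha), fun h1 => absurd h1 (hodd c hc)⟩
  have hxH : x ∈ H := by
    have h1 : x = (x ^ 7) * (x ^ 7) := by
      rw [← pow_add, show 7 + 7 = 13 + 1 from rfl, pow_succ, h.x13, one_mul]
    rw [h1]
    exact (mul_mem_iff_of_index_two hH).2 Iff.rfl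
  set N := normalizer ((zpowers x : Subgroup G) : Set G) with hN
  set C := centralizer ((zpowers x : Subgroup G) : Set G) with hC
  have hCN : C ≤ N := centralizer_le_normalizer _
  have hlC : l ∈ C := by
    rw [hC, mem_centralizer_iff]
    intro z hz
    obtain ⟨i, rfl⟩ := mem_zpowers_iff.1 hz
    exact (show Commute x l from h.xl).zpow_left i
  set Q : Subgroup H := zpowers (⟨x, hxH⟩ : H) with hQ
  have hQm : Q.map H.subtype = zpowers x := by
    rw [hQ, MonoidHom.map_zpowers]
    rfl
  have hCQ : centralizer (Q : Set H) = C.subgroupOf H := by rw [cen_sub, hQm]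
  have hNQ : normalizer (Q : Set H) = N.subgroupOf H := by rw [norm_sub, hQm]
  have hQc : Nat.card Q = 13 := by
    rw [hQ, Nat.card_zpowers, ← Subgroup.orderOf_coe]
    exact orderOf_eq_prime h.x13 h.x1
  obtain ⟨P, hPQ⟩ : ∃ P : Sylow 13 H, (P : Subgroup H) = Q := by
    obtain ⟨P, hP⟩ := (IsPGroup.of_card (n := 1) (by rw [hQc, pow_one]) : IsPGroup 13 Q).exists_le_sylow
    refine ⟨P, ?_⟩
    symm
    apply eq_of_le_of_card_ge hP
    rw [hQc]
    obtain ⟨m, hm⟩ := IsPGroup.iff_card.1 P.isPGroup'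
    have h1 : 13 ^ m ∣ Nat.card H := by rw [← hm]; exact card_subgroup_dvd_card _
    have h2 : Nat.card H ∣ Nat.card G := card_subgroup_dvd_card _
    have h3 : m < 2 := by
      by_contra h3
      have h4 : 13 ^ 2 ∣ Nat.card G := ((pow_dvd_pow 13 (by omega)).trans h1).trans h2
      rw [h.card] at h4
      norm_num at h4
    rw [show Nat.card ↥(P : Subgroup H) = 13 ^ m from hm]
    calc 13 ^ m ≤ 13 ^ 1 := Nat.pow_le_pow_right (by norm_num) (by omega)
      _ = 13 := pow_one _
  have hP : Nat.card P = 13 := by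
    have : Nat.card (P : Subgroup H) = 13 := by rw [hPQ]; exact hQc
    exact this
  obtain ⟨K, hK⟩ := exists_isComp P hP
  have hCP : centralizer ((P : Subgroup H) : Set H) = C.subgroupOf H := by rw [hPQ]; exact hCQ
  have hNP : normalizer ((P : Subgroup H) : Set H) = N.subgroupOf H := by rw [hPQ]; exact hNQ
  have c1 := card_sub hH hlC (hodd l h.hl)
  have c2 := card_sub hH (hCN hlC) (hodd l h.hl)
  have c3 := SmallSimple.ThetaOrtho.card_centralizer hK hP
  rw [hCP] at c3
  have hC936 := card_C_le h (card_T h)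
  have hKc : Nat.card K ≤ 36 := by
    rw [← hC] at hC936
    omega
  -- the index
  set e := (centralizer ((P : Subgroup H) : Set H)).relIndex (normalizer ((P : Subgroup H) : Set H)) with he
  have he1 : e = C.relIndex N := by
    have h1 : e * Nat.card (C.subgroupOf H) = Nat.card (N.subgroupOf H) := by
      rw [he, hCP, hNP, mul_comm]
      exact card_mul_relIndex (subgroupOf_mono H hCN)
    have h2 : Nat.card C * C.relIndex N = Nat.card N := card_mul_relIndex hCN
    rw [← c1, ← c2, ← h1] at h2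
    have h3 : 0 < Nat.card (C.subgroupOf H) := Nat.card_pos
    have h4 : C.relIndex N * (2 * Nat.card (C.subgroupOf H)) = e * (2 * Nat.card (C.subgroupOf H)) := by
      rw [mul_comm, h2]; ring
    exact (Nat.eq_of_mul_eq_mul_right (by omega) h4).symm
  have he6 : 6 ∣ e := by rw [he1]; exact six_dvd h
  have he12 : e ∣ 12 := SmallSimple.BurnsideNC.relIndex_dvd_of_card_eq_prime P hP
  obtain ⟨t, ht⟩ := he12
  have he' : e = 6 ∨ e = 12 := by
    obtain ⟨w, hw⟩ := he6
    have h1 : e ≤ 12 := Nat.le_of_dvd (by norm_num) ⟨t, ht⟩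
    have h2 : e ≠ 0 := by rintro h2; rw [h2] at ht; omega
    omega
  -- the subgroup
  have hAH : A l k u v ≤ H := by
    rw [A, sup_le_iff, zpowers_le, zpowers_le]
    exact ⟨hmul h.hl h.hk, hmul h.hu h.hv⟩
  have hAC : A l k u v ≤ C := by
    refine le_trans ?_ (T_le_C h)
    rw [A, sup_le_iff, zpowers_le, zpowers_le]
    exact ⟨mul_mem (subset_closure (by simp)) (subset_closure (by simp)),
      mul_mem (subset_closure (by simp)) (subset_closure (by simp))⟩
  have hzC : l * u ∈ C := T_le_C h (mul_mem (subset_closure (by simp)) (subset_closure (by simp)))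
  have hzz : l * u * (l * u) = 1 := by
    calc l * u * (l * u) = l * (u * l) * u := by group
      _ = l * (l * u) * u := by rw [h.lu]
      _ = (l * l) * (u * u) := by group
      _ = 1 := by rw [h.ll, h.uu, mul_one]
  have hzA : l * u ∉ A l k u v := by
    intro h1
    have h2 := cube_A h h1
    rw [hzz, one_mul] at h2
    have h3 : u = l⁻¹ := eq_inv_of_mul_eq_one_right h2
    have h4 : u = l := h3.trans (inv_eq_of_mul_eq_one_right h.ll)
    exact h.lkn (by rw [← h4]; exact h.ku.symm)
  have hmemK : ∀ (y : H), (y : G) ∈ C → ¬ 13 ∣ orderOf y → y ∈ K := fun y hy hy' =>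
    (hK y).2 ⟨by rw [hCP, mem_subgroupOf]; exact hy, hy'⟩
  have hN' : ∀ g ∈ normalizer ((P : Subgroup H) : Set H), (g : G) ∈ N := fun g hg => by
    rw [hNP] at hg; exact mem_subgroupOf.1 hg
  have h1 := Rel.rel13 hK hP (e := e) (t := t) he.symm he' ht.symm hKc
    (A := (A l k u v).subgroupOf H) (z := (⟨l * u, hm⟩ : H)) ?_ ?_ ?_ ?_ ?_ ?_ ?_ ?_ ?_ χ hn hb
  · exact h1
  · intro a ha
    refine hmemK a (hAC (mem_subgroupOf.1 ha)) fun hd => ?_
    have h2 := cube_A h (mem_subgroupOf.1 ha)
    have h3 : a ^ 3 = 1 := by rw [pow_succ, pow_two]; exact Subtype.ext h2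
    have h4 := Nat.le_of_dvd (by norm_num) (hd.trans (orderOf_dvd_of_pow_eq_one h3))
    omega
  · rw [Nat.card_congr (subgroupOfEquivOfLe hAH).toEquiv, card_A h]
  · intro g hg a ha
    exact mem_subgroupOf.2 (norm_A h (hN' g hg) _ (mem_subgroupOf.1 ha))
  · intro a ha
    exact Subtype.ext (cube_A h (mem_subgroupOf.1 ha))
  · refine hmemK _ hzC fun hd => ?_
    have h3 : (⟨l * u, hm⟩ : H) ^ 2 = 1 := by rw [pow_two]; exact Subtype.ext hzz
    have h4 := Nat.le_of_dvd (by norm_num) (hd.trans (orderOf_dvd_of_pow_eq_one h3))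
    omega
  · exact fun h1 => hzA (mem_subgroupOf.1 h1)
  · exact Subtype.ext hzz
  · intro a ha
    exact Subtype.ext (z_inv h (mem_subgroupOf.1 ha))
  · intro g hg
    exact mem_subgroupOf.2 (norm_z h (hN' g hg))

end

end Cfsg.Agent.H26.Ore.R13
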