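import Cfsg.Agent.H26.Ore.Nrm
import Cfsg.Agent.SmallSimple.ThetaValue

/-!
# Residues of the degree and of the value at an involution `z ∈ K`, modulo `p` (helper26)

`P` a Sylow subgroup of order `p`, `C(P) = P × K`.
* `rel11` : `p = 11`, `|K| = 12`, four-subgroup `A` of `K` normalised by `N(P)`, `K` transitive on `A \ 1`;
* `rel13` : `p = 13`, `|A| = 9`, `z` inverts `A`, `|K| ≤ 36`.
-/

set_option autoImplicit false
set_option linter.unusedSectionVars false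

open Cfsg
open scoped ComplexConjugate

namespace Cfsg.Agent.H26.Ore.Rel

open Subgroup
open Cfsg.Agent.Characters.Core Cfsg.Agent.Characters.Linear
open Cfsg.Agent.SmallSimple Cfsg.Agent.SmallSimple.PrimeDual Cfsg.Agent.SmallSimple.ThetaSetup
open Cfsg.Agent.SmallSimple.ThetaOrtho Cfsg.Agent.SmallSimple.ThetaGroup
open Cfsg.Agent.SmallSimple.ThetaCount Cfsg.Agent.SmallSimple.TheoremC Cfsg.Agent.SmallSimple.TheoremCCor
open Cfsg.Agent.SmallSimple.ThetaValue (orb_apply_one)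
open Cfsg.Agent.M23Order.Base (dg dg_eq dg_of_eq dg_dvd sum_dg_sq_le)
open Cfsg.Agent.H26.Ore.Nrm

universe u

variable {G : Type u} [Group G] [Finite G] {p : ℕ} [Fact p.Prime] {P : Sylow p G} {K A : Subgroup G}

/-- the degree and the value at an involution -/
theorem key (hK : IsComp p (P : Subgroup G) K) (hP : Nat.card P = p) {e t : ℕ}
    (he : (centralizer ((P : Subgroup G) : Set G)).relIndex (normalizer ((P : Subgroup G) : Set G)) = e)
    (ht : e * t = p - 1) (χ : IrrCharacter G) {z : G} (hzK : z ∈ K) (hz : z * z = 1) {n b : ℤ}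
    (hn : (χ : G → ℂ) 1 = n) (hb : (χ : G → ℂ) z = b) :
    ((p : ℤ) ∣ n ∧ (p : ℤ) ∣ b) ∨ ∃ θ : IrrCharacter K, ∃ e' m : ℕ, ∃ c : ℤ, m = (orb P K (θ : K → ℂ)).card ∧
      e' * m = e ∧ (c = 1 ∨ c = -1 ∨ c = e' ∨ c = -e') ∧ (p : ℤ) ∣ n - c * (m * dg θ) ∧
      ∀ w : ℤ, (∀ θ' ∈ orb P K (θ : K → ℂ), (θ' : K → ℂ) ⟨z, hzK⟩ = w) → (p : ℤ) ∣ b - c * (m * w) := by
  classical
  have hv1 : ∀ θ : IrrCharacter K, (θ : K → ℂ) 1 = ((dg θ : ℤ) : ℂ) := fun θ => by rw [dg_eq]; norm_cast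
  have hvz : ∀ θ : IrrCharacter K, ∃ v : ℤ, (θ : K → ℂ) ⟨z, hzK⟩ = v := fun θ =>
    exists_int_invol (isIrr_isCharacter θ.2) (Subtype.ext hz)
  choose v hv using hvz
  rcases Gen.mod_value hK hP he ht χ with h | ⟨θ, e', he', c, hc, h⟩
  · left
    exact ⟨h 1 _ hv1 n hn, h ⟨z, hzK⟩ v hv b hb⟩
  · right
    refine ⟨θ, e', _, c, rfl, he', hc, ?_, ?_⟩
    · have h1 := h 1 _ hv1 n hn
      rw [Finset.sum_congr rfl (g := fun _ => (dg θ : ℤ)), Finset.sum_const, nsmul_eq_mul] at h1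
      · exact h1
      · intro θ' hθ'
        have h3 := orb_apply_one hK hθ'
        rw [dg_eq, dg_eq] at h3
        exact_mod_cast h3
    · intro w hw
      have h1 := h ⟨z, hzK⟩ v hv b hb
      rw [Finset.sum_congr rfl (g := fun _ => w), Finset.sum_const, nsmul_eq_mul] at h1
      · exact h1
      · intro θ' hθ'
        have h3 := hw θ' hθ'
        rw [hv] at h3
        exact_mod_cast h3

/-- `A` in the kernel -/
def InKer (A : Subgroup G) (θ : K → ℂ) : Prop := ∀ a ∈ A.subgroupOf K, ∀ x : K, θ (a * x) = θ x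

theorem normal_sub (hK : IsComp p (P : Subgroup G) K)
    (hAN : ∀ n ∈ normalizer ((P : Subgroup G) : Set G), ∀ a ∈ A, n * a * n⁻¹ ∈ A) : (A.subgroupOf K).Normal :=
  ⟨fun a ha g => by
    rw [mem_subgroupOf] at ha ⊢
    exact hAN g (centralizer_le_normalizer _ (hK.le g.2)) a ha⟩

theorem inKer_orb (hK : IsComp p (P : Subgroup G) K)
    (hAN : ∀ n ∈ normalizer ((P : Subgroup G) : Set G), ∀ a ∈ A, n * a * n⁻¹ ∈ A) {θ : K → ℂ}
    {θ' : IrrCharacter K} (h : θ' ∈ orb P K θ) : InKer A (θ' : K → ℂ) ↔ InKer A θ := by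
  obtain ⟨n, hn, h1⟩ := mem_orb.1 h
  rw [← h1]
  have hni := inv_mem hn
  constructor
  · intro h a ha x
    have ha' : n⁻¹ * (a : G) * n ∈ A := by
      have := hAN _ hni a (mem_subgroupOf.1 ha)
      rwa [inv_inv] at this
    have hak : n⁻¹ * (a : G) * n ∈ K := by
      have := conj_mem hK hni a.2
      rwa [inv_inv] at this
    have hxk : n⁻¹ * (x : G) * n ∈ K := by
      have := conj_mem hK hni x.2
      rwa [inv_inv] at this
    have h2 := h ⟨_, hak⟩ (mem_subgroupOf.2 ha') ⟨_, hxk⟩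
    rw [tw_apply hK _ hn, tw_apply hK _ hn] at h2
    convert h2 using 2
    · apply Subtype.ext; show (a : G) * x = n * (n⁻¹ * a * n * (n⁻¹ * x * n)) * n⁻¹; group
    · apply Subtype.ext; show (x : G) = n * (n⁻¹ * x * n) * n⁻¹; group
  · intro h a ha x
    rw [tw_apply hK _ hn, tw_apply hK _ hn]
    have h2 := h ⟨n * a * n⁻¹, conj_mem hK hn a.2⟩ (mem_subgroupOf.2 (hAN n hn a (mem_subgroupOf.1 ha)))
      ⟨n * x * n⁻¹, conj_mem hK hn x.2⟩
    rw [← h2]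
    congr 1
    apply Subtype.ext
    show n * (a * x : G) * n⁻¹ = n * a * n⁻¹ * (n * x * n⁻¹)
    group

open scoped Classical in
/-- the number of conjugates of a character with `A` in the kernel -/
theorem card_orb_le (hK : IsComp p (P : Subgroup G) K) (hAK : A ≤ K)
    (hAN : ∀ n ∈ normalizer ((P : Subgroup G) : Set G), ∀ a ∈ A, n * a * n⁻¹ ∈ A) [Fintype (IrrCharacter K)]
    {θ : IrrCharacter K} (h : InKer A (θ : K → ℂ)) :
    Nat.card A * ∑ θ' ∈ Finset.univ.filter (fun θ' : IrrCharacter K => InKer A (θ' : K → ℂ)), dg θ' ^ 2 =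
      Nat.card K ∧ orb P K (θ : K → ℂ) ⊆ Finset.univ.filter (fun θ' : IrrCharacter K => InKer A (θ' : K → ℂ)) := by
  have := normal_sub hK hAN
  constructor
  · have h1 := sum_sq (A.subgroupOf K)
    have h2 : ∀ θ' : IrrCharacter K, (θ' : K → ℂ) 1 * (θ' : K → ℂ) 1 = ((dg θ' ^ 2 : ℕ) : ℂ) := fun θ' => by
      rw [dg_eq]; push_cast; ring
    rw [Finset.sum_congr rfl fun θ' _ => h2 θ', Nat.card_congr (subgroupOfEquivOfLe hAK).toEquiv] at h1
    exact_mod_cast h1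
  · intro θ' h'
    exact Finset.mem_filter.2 ⟨Finset.mem_univ _, (inKer_orb hK hAN h').2 h⟩

theorem dg_orb (hK : IsComp p (P : Subgroup G) K) {θ θ' : IrrCharacter K} (h : θ' ∈ orb P K (θ : K → ℂ)) :
    dg θ' = dg θ := by
  have h3 := orb_apply_one hK h
  rw [dg_eq, dg_eq] at h3
  exact_mod_cast h3

/-- **residues modulo 11** -/
theorem rel11 [Fact (Nat.Prime 11)] {P : Sylow 11 G} (hK : IsComp 11 (P : Subgroup G) K)
    (hP : Nat.card P = 11)
    (he : (centralizer ((P : Subgroup G) : Set G)).relIndex (normalizer ((P : Subgroup G) : Set G)) = 10)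
    (hKc : Nat.card K = 12) (hAK : A ≤ K) (hAc : Nat.card A = 4)
    (hAN : ∀ n ∈ normalizer ((P : Subgroup G) : Set G), ∀ a ∈ A, n * a * n⁻¹ ∈ A) {z : G} (hzA : z ∈ A)
    (hz1 : z ≠ 1) (hz : z * z = 1) (hconj : ∀ a ∈ A, a ≠ 1 → ∃ k ∈ K, k * a * k⁻¹ = z)
    (χ : IrrCharacter G) {n b : ℤ} (hn : (χ : G → ℂ) 1 = n) (hb : (χ : G → ℂ) z = b) :
    ((11 : ℤ) ∣ n ∧ (11 : ℤ) ∣ b) ∨ ((11 : ℤ) ∣ n - b ∧ (n % 11 = 1 ∨ n % 11 = 2 ∨ n % 11 = 9 ∨ n % 11 = 10)) ∨
      (n % 11 = 3 ∧ b % 11 = 10) ∨ (n % 11 = 8 ∧ b % 11 = 1) := by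
  classical
  have : Finite (IrrCharacter K) := finite_irr
  have := Fintype.ofFinite (IrrCharacter K)
  have := Fintype.ofFinite A
  have hAn := normal_sub hK hAN
  rcases key hK hP he (t := 1) (by norm_num) χ (hAK hzA) hz hn hb with h | ⟨θ, e', m, c, hm, hem, hc, h1, h2⟩
  · exact Or.inl (by exact_mod_cast h)
  right
  have hm0 : 0 < m := Nat.pos_of_ne_zero (by rintro rfl; simp at hem)
  by_cases hker : InKer A (θ : K → ℂ)
  · left
    obtain ⟨g1, g2⟩ := card_orb_le hK hAK hAN hker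
    have g3 : m * dg θ ^ 2 ≤ 3 := by
      have h3 := Finset.sum_le_sum_of_subset (f := fun θ' => dg θ' ^ 2) g2
      rw [Finset.sum_congr rfl (g := fun _ => dg θ ^ 2) (fun θ' h => by rw [dg_orb hK h]), Finset.sum_const,
        smul_eq_mul, ← hm] at h3
      rw [hAc, hKc] at g1
      omega
    have hd0 : 0 < dg θ := Nat.pos_of_ne_zero (M23Order.Base.dg_ne_zero θ)
    have hd1 : dg θ = 1 := by
      have : dg θ ^ 2 ≤ 3 := le_trans (Nat.le_mul_of_pos_left _ hm0) g3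
      by_contra hne
      have : 2 ≤ dg θ := by omega
      nlinarith
    rw [hd1] at h1 g3
    have h4 := h2 1 (fun θ' hθ' => by
      have h5 := (inKer_orb hK hAN hθ').2 hker ⟨z, hAK hzA⟩ (mem_subgroupOf.2 hzA) 1
      rw [mul_one, dg_eq, dg_orb hK hθ', hd1] at h5
      rw [h5]; norm_num)
    have hm3 : m ≤ 3 := by simpa using g3
    have hcases : (m = 1 ∧ e' = 10) ∨ (m = 2 ∧ e' = 5) := by
      interval_cases m <;> omega
    norm_num at h1 h4
    rcases hcases with ⟨rfl, rfl⟩ | ⟨rfl, rfl⟩ <;> rcases hc with rfl | rfl | rfl | rfl <;> norm_num at h1 h4 <;> omega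
  · right
    have hval : ∀ θ' ∈ orb P K (θ : K → ℂ), ∃ w : ℤ, (θ' : K → ℂ) ⟨z, hAK hzA⟩ = w ∧ (dg θ : ℤ) + 3 * w = 0 := by
      intro θ' hθ'
      have hnk : ¬ InKer A (θ' : K → ℂ) := fun h => hker ((inKer_orb hK hAN hθ').1 h)
      obtain ⟨w, hw⟩ := exists_int_invol (isIrr_isCharacter θ'.2) (t := (⟨z, hAK hzA⟩ : K)) (Subtype.ext hz)
      refine ⟨w, hw, ?_⟩
      have := Fintype.ofFinite (A.subgroupOf K)
      rcases dich (A.subgroupOf K) θ'.2 with h | h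
      · exact absurd h hnk
      have h3 := h 1
      have h4 : ∀ a : A.subgroupOf K, (θ' : K → ℂ) ((a : K) * 1) = w + if a = 1 then (dg θ : ℂ) - w else 0 := by
        intro a
        rw [mul_one]
        split_ifs with ha
        · rw [ha, OneMemClass.coe_one, dg_eq, dg_orb hK hθ']
          ring
        · obtain ⟨k, hk, hkz⟩ := hconj ((a : K) : G) (mem_subgroupOf.1 a.2) (fun h => ha (Subtype.ext (Subtype.ext h)))
          rw [add_zero, ← hw, ← isIrr_isClassFunction θ'.2 (a : K) ⟨k, hk⟩]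
          exact congrArg (θ' : K → ℂ) (Subtype.ext hkz)
      rw [Finset.sum_congr rfl fun a _ => h4 a, Finset.sum_add_distrib, Finset.sum_const, Finset.sum_ite_eq',
        if_pos (Finset.mem_univ _), nsmul_eq_mul, Finset.card_univ, ← Nat.card_eq_fintype_card,
        Nat.card_congr (subgroupOfEquivOfLe hAK).toEquiv, hAc] at h3
      have h5 : (((dg θ : ℤ) + 3 * w : ℤ) : ℂ) = 0 := by push_cast; push_cast at h3; linear_combination h3
      exact_mod_cast h5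
    have hsq : m * dg θ ^ 2 ≤ 12 := by
      have h3 := sum_dg_sq_le (orb P K (θ : K → ℂ))
      rwa [Finset.sum_congr rfl (g := fun _ => dg θ ^ 2) (fun θ' h => by rw [dg_orb hK h]), Finset.sum_const,
        smul_eq_mul, ← hm, hKc] at h3
    have hd0 : 0 < dg θ := Nat.pos_of_ne_zero (M23Order.Base.dg_ne_zero θ)
    obtain ⟨θ₁, hθ₁⟩ : (orb P K (θ : K → ℂ)).Nonempty := by rw [← Finset.card_pos, ← hm]; exact hm0
    obtain ⟨w, -, hw⟩ := hval θ₁ hθ₁
    have hd3 : dg θ = 3 := by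
      have h3 : dg θ ^ 2 ≤ 12 := le_trans (Nat.le_mul_of_pos_left _ hm0) hsq
      have h4 : dg θ ≤ 3 := by
        by_contra hne
        have : 4 ≤ dg θ := by omega
        nlinarith
      omega
    have hm1 : m = 1 := by rw [hd3] at hsq; omega
    subst hm1
    have he10 : e' = 10 := by omega
    subst he10
    have h4 := h2 (-1) (fun θ' hθ' => by
      obtain ⟨w', hw', hw2⟩ := hval θ' hθ'
      rw [hw', show w' = -1 by omega])
    rw [hd3] at h1
    norm_num at h1 h4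
    rcases hc with rfl | rfl | rfl | rfl <;> norm_num at h1 h4 <;> omega

theorem conj_aux {x z : G} (h3 : x * x * x = 1) (h : z * (x * x)⁻¹ * z⁻¹ = x * x) :
    x * z = x * x * z * (x * x)⁻¹ := by
  rw [mul_assoc (x * x), mul_inv_eq_iff_eq_mul.1 h]
  calc x * z = (x * x * x) * (x * z) := by rw [h3, one_mul]
    _ = _ := by simp only [mul_assoc]

/-- **residues modulo 13** -/
theorem rel13 [Fact (Nat.Prime 13)] {P : Sylow 13 G} (hK : IsComp 13 (P : Subgroup G) K)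
    (hP : Nat.card P = 13) {e t : ℕ}
    (he : (centralizer ((P : Subgroup G) : Set G)).relIndex (normalizer ((P : Subgroup G) : Set G)) = e)
    (he' : e = 6 ∨ e = 12) (ht : e * t = 12)
    (hKc : Nat.card K ≤ 36) (hAK : A ≤ K) (hAc : Nat.card A = 9)
    (hAN : ∀ n ∈ normalizer ((P : Subgroup G) : Set G), ∀ a ∈ A, n * a * n⁻¹ ∈ A) (hA3 : ∀ a ∈ A, a * a * a = 1)
    {z : G} (hzK : z ∈ K) (hzA : z ∉ A) (hz : z * z = 1) (hinv : ∀ a ∈ A, z * a * z⁻¹ = a⁻¹)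
    (hzN : ∀ n ∈ normalizer ((P : Subgroup G) : Set G), n * z * n⁻¹ * z⁻¹ ∈ A)
    (χ : IrrCharacter G) {n b : ℤ} (hn : (χ : G → ℂ) 1 = n) (hb : (χ : G → ℂ) z = b) :
    (13 : ℤ) ∣ b ∨ (((13 : ℤ) ∣ b - n ∨ (13 : ℤ) ∣ b + n) ∧
      (n % 13 = 1 ∨ n % 13 = 2 ∨ n % 13 = 6 ∨ n % 13 = 7 ∨ n % 13 = 11 ∨ n % 13 = 12)) := by
  classical
  have : Finite (IrrCharacter K) := finite_irr
  have := Fintype.ofFinite (IrrCharacter K)
  have := Fintype.ofFinite (A.subgroupOf K)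
  have hAn := normal_sub hK hAN
  rcases key hK hP he ht χ hzK hz hn hb with h | ⟨θ, e₁, m, c, hm, hem, hc, h1, h2⟩
  · exact Or.inl (by exact_mod_cast h.2)
  by_cases hker : InKer A (θ : K → ℂ)
  · right
    have hzc : ∀ y : K, y * ⟨z, hzK⟩ * y⁻¹ * (⟨z, hzK⟩ : K)⁻¹ ∈ A.subgroupOf K := fun y =>
      mem_subgroupOf.2 (hzN y (centralizer_le_normalizer _ (hK.le y.2)))
    have hpm := pm θ.2 hker (z := (⟨z, hzK⟩ : K)) (Subtype.ext hz) hzc
    obtain ⟨ε, hε, hεz⟩ : ∃ ε : ℤ, (ε = 1 ∨ ε = -1) ∧ (θ : K → ℂ) ⟨z, hzK⟩ = ((ε * dg θ : ℤ) : ℂ) := by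
      rcases hpm with h | h
      · exact ⟨1, Or.inl rfl, by rw [h, dg_eq]; push_cast; ring⟩
      · exact ⟨-1, Or.inr rfl, by rw [h, dg_eq]; push_cast; ring⟩
    have hconst : ∀ θ' ∈ orb P K (θ : K → ℂ), (θ' : K → ℂ) ⟨z, hzK⟩ = ((ε * dg θ : ℤ) : ℂ) := by
      intro θ' hθ'
      obtain ⟨g, hg, h⟩ := mem_orb.1 hθ'
      rw [← hεz, ← h, tw_apply hK _ hg]
      have h3 : (⟨g * z * g⁻¹, conj_mem hK hg hzK⟩ : K) = ⟨g * z * g⁻¹ * z⁻¹, hAK (hzN g hg)⟩ * ⟨z, hzK⟩ := by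
        apply Subtype.ext
        show g * z * g⁻¹ = g * z * g⁻¹ * z⁻¹ * z
        group
      show (θ : K → ℂ) ⟨g * z * g⁻¹, _⟩ = _
      rw [h3]
      exact hker _ (mem_subgroupOf.2 (hzN g hg)) _
    have h4 := h2 _ hconst
    obtain ⟨g1, g2⟩ := card_orb_le hK hAK hAN hker
    set Λ := Finset.univ.filter (fun θ' : IrrCharacter K => InKer A (θ' : K → ℂ)) with hΛ
    have g3 := sum_mul (A.subgroupOf K) (y := (⟨z, hzK⟩ : K)) (fun h => hzA (mem_subgroupOf.1 h))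
    have hval : ∀ θ' : IrrCharacter K, ∃ δ : ℤ, θ' ∈ Λ → (δ = 1 ∨ δ = -1) ∧
        (θ' : K → ℂ) 1 * (θ' : K → ℂ) ⟨z, hzK⟩ = ((δ * (dg θ' : ℤ) ^ 2 : ℤ) : ℂ) := by
      intro θ'
      by_cases hΛ' : θ' ∈ Λ
      · rcases pm θ'.2 (Finset.mem_filter.1 hΛ').2 (z := (⟨z, hzK⟩ : K)) (Subtype.ext hz) hzc with h | h
        · exact ⟨1, fun _ => ⟨Or.inl rfl, by rw [h, dg_eq]; push_cast; ring⟩⟩
        · exact ⟨-1, fun _ => ⟨Or.inr rfl, by rw [h, dg_eq]; push_cast; ring⟩⟩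
      · exact ⟨1, fun h => absurd h hΛ'⟩
    choose δ hδ using hval
    have hsum : ∑ θ' ∈ Λ, δ θ' * (dg θ' : ℤ) ^ 2 = 0 := by
      have g4 : ∑ θ' ∈ Λ, (θ' : K → ℂ) 1 * (θ' : K → ℂ) ⟨z, hzK⟩ = 0 := g3
      rw [Finset.sum_congr rfl (fun θ' h => (hδ θ' h).2)] at g4
      exact_mod_cast g4
    have hdiv : ∑ θ' ∈ Λ, (dg θ' : ℤ) ^ 2 ≤ 4 := by
      have g5 : (∑ θ' ∈ Λ, (dg θ' : ℤ) ^ 2) = ((∑ θ' ∈ Λ, dg θ' ^ 2 : ℕ) : ℤ) := by push_cast; rfl
      rw [g5]
      rw [hAc] at g1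
      omega
    have hm0 : 0 < m := Nat.pos_of_ne_zero (by rintro rfl; rcases he' with h | h <;> simp [h] at hem)
    have hεε : ε * ε = 1 := by rcases hε with h | h <;> rw [h] <;> norm_num
    have g4 : (m : ℤ) * dg θ ^ 2 ≤ 2 := by
      have g5 : ∑ θ' ∈ orb P K (θ : K → ℂ), (1 + ε * δ θ') * (dg θ' : ℤ) ^ 2 ≤
          ∑ θ' ∈ Λ, (1 + ε * δ θ') * (dg θ' : ℤ) ^ 2 := by
        refine Finset.sum_le_sum_of_subset_of_nonneg g2 fun θ' h _ => ?_
        refine mul_nonneg ?_ (sq_nonneg _)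
        rcases (hδ θ' h).1 with h1 | h1 <;> rcases hε with h2 | h2 <;> rw [h1, h2] <;> norm_num
      have g6 : ∑ θ' ∈ orb P K (θ : K → ℂ), (1 + ε * δ θ') * (dg θ' : ℤ) ^ 2 = m * (2 * (dg θ : ℤ) ^ 2) := by
        rw [Finset.sum_congr rfl (g := fun _ => 2 * (dg θ : ℤ) ^ 2), Finset.sum_const, nsmul_eq_mul, ← hm]
        intro θ' h
        have h3 := (hδ θ' (g2 h)).2
        rw [hconst θ' h, dg_eq, dg_orb hK h] at h3
        have h4 : (dg θ : ℤ) * (ε * dg θ) = δ θ' * (dg θ : ℤ) ^ 2 := by exact_mod_cast h3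
        rw [dg_orb hK h]
        calc (1 + ε * δ θ') * (dg θ : ℤ) ^ 2 = dg θ ^ 2 + ε * (δ θ' * (dg θ : ℤ) ^ 2) := by ring
          _ = dg θ ^ 2 + (ε * ε) * dg θ ^ 2 := by rw [← h4]; ring
          _ = _ := by rw [hεε]; ring
      have g7 : ∑ θ' ∈ Λ, (1 + ε * δ θ') * (dg θ' : ℤ) ^ 2 = ∑ θ' ∈ Λ, (dg θ' : ℤ) ^ 2 := by
        calc ∑ θ' ∈ Λ, (1 + ε * δ θ') * (dg θ' : ℤ) ^ 2 =
            ∑ θ' ∈ Λ, (dg θ' : ℤ) ^ 2 + ε * ∑ θ' ∈ Λ, δ θ' * (dg θ' : ℤ) ^ 2 := by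
              rw [Finset.mul_sum, ← Finset.sum_add_distrib]
              exact Finset.sum_congr rfl fun _ _ => by ring
          _ = _ := by rw [hsum, mul_zero, add_zero]
      rw [g6, g7] at g5
      linarith
    have hd0 : 0 < dg θ := Nat.pos_of_ne_zero (M23Order.Base.dg_ne_zero θ)
    have hd1 : dg θ = 1 := by
      by_contra hne
      have h5 : (2 : ℤ) ≤ dg θ := by omega
      have h6 : (1 : ℤ) ≤ m := by omega
      nlinarith
    rw [hd1] at h1 h4 g4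
    have hm2 : m ≤ 2 := by
      have : (m : ℤ) ≤ 2 := by simpa using g4
      omega
    have hcases : (m = 1 ∧ e₁ = e) ∨ (m = 2 ∧ 2 * e₁ = e) := by
      interval_cases m
      · left; omega
      · right; omega
    norm_num at h1 h4
    rcases he' with rfl | rfl <;> rcases hcases with ⟨rfl, hh⟩ | ⟨rfl, hh⟩
    · subst hh
      rcases hc with rfl | rfl | rfl | rfl <;> rcases hε with rfl | rfl <;> norm_num at h1 h4 <;> omega
    · obtain rfl : e₁ = 3 := by omega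
      rcases hc with rfl | rfl | rfl | rfl <;> rcases hε with rfl | rfl <;> norm_num at h1 h4 <;> omega
    · subst hh
      rcases hc with rfl | rfl | rfl | rfl <;> rcases hε with rfl | rfl <;> norm_num at h1 h4 <;> omega
    · obtain rfl : e₁ = 6 := by omega
      rcases hc with rfl | rfl | rfl | rfl <;> rcases hε with rfl | rfl <;> norm_num at h1 h4 <;> omega
  · left
    have h3 := h2 0 (fun θ' hθ' => by
      have hnk : ¬ InKer A (θ' : K → ℂ) := fun h => hker ((inKer_orb hK hAN hθ').1 h)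
      rcases dich (A.subgroupOf K) θ'.2 with h | h
      · exact absurd h hnk
      have h4 := h ⟨z, hzK⟩
      have h5 : ∀ a : A.subgroupOf K, (θ' : K → ℂ) ((a : K) * ⟨z, hzK⟩) = (θ' : K → ℂ) ⟨z, hzK⟩ := by
        intro a
        have ha : ((a : K) : G) ∈ A := mem_subgroupOf.1 a.2
        rw [← isIrr_isClassFunction θ'.2 (⟨z, hzK⟩ : K) ((a : K) * a)]
        refine congrArg (θ' : K → ℂ) (Subtype.ext ?_)
        have h6 := hinv _ (inv_mem (mul_mem ha ha))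
        rw [inv_inv] at h6
        exact conj_aux (hA3 _ ha) h6
      rw [Finset.sum_congr rfl fun a _ => h5 a, Finset.sum_const, nsmul_eq_mul, Finset.card_univ,
        ← Nat.card_eq_fintype_card, Nat.card_congr (subgroupOfEquivOfLe hAK).toEquiv, hAc] at h4
      rcases mul_eq_zero.1 h4 with h5 | h5
      · norm_num at h5
      · rw [h5]; norm_num)
    simpa using h3

end Cfsg.Agent.H26.Ore.Rel
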